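import Cfsg.Agent.Lib.Helper1.M23Ext.CHI
import Cfsg.Agent.Lib.Helper1.Stem20

set_option autoImplicit false

/-! # The central extension of the stabilizer of a point by the coordinate at the point -/

namespace Cfsg.Agent.Lib.Helper1.M23Ext

open MulAction Cfsg.Agent.Lib.Helper1.Stem

open scoped commutatorElement

universe u v w

section

variable {E : Type u} [Group E] {G : Type v} [Group G] {Ω : Type w} [MulAction G Ω]

/-- the hypotheses on the coordinates of the kernel of a projection -/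
structure CoordHyp (π : E →* G) (ι : E → Ω → ZMod 2) (ω₀ : Ω) : Prop where
  surj : Function.Surjective π
  add : ∀ n n' : E, π n = 1 → π n' = 1 → ι (n * n') = ι n + ι n'
  equiv : ∀ (e n : E), π n = 1 → ι (e * n * e⁻¹) = tw (π e) (ι n)

variable {π : E →* G} {ι : E → Ω → ZMod 2} {ω₀ : Ω}

namespace CoordHyp

variable (H : CoordHyp π ι ω₀)

include H in
theorem iota_one : ι 1 = 0 := by
  have h := H.add 1 1 (map_one π) (map_one π)
  rw [mul_one] at h
  funext ω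
  have := congrFun h ω
  simp only [Pi.add_apply, Pi.zero_apply] at this ⊢
  rw [zmod2_add_self] at this
  exact this

include H in
theorem iota_inv (n : E) (hn : π n = 1) : ι n⁻¹ = ι n := by
  have h := H.add n n⁻¹ hn (by rw [map_inv, hn, inv_one])
  rw [mul_inv_cancel, H.iota_one] at h
  funext ω
  have h1 := congrFun h ω
  simp only [Pi.add_apply, Pi.zero_apply] at h1
  have h2 := zmod2_add_self (ι n ω)
  linear_combination -h1 - h2

/-- the preimage of the stabilizer -/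
abbrev PS (π : E →* G) (ω₀ : Ω) : Subgroup E := (stabilizer G ω₀).comap π

theorem stab_inv (p : ↥(PS π ω₀)) : (π p)⁻¹ • ω₀ = ω₀ := by
  have h : π p ∈ stabilizer G ω₀ := p.2
  rw [inv_smul_eq_iff]
  exact (mem_stabilizer_iff.mp h).symm

/-- the elements of the kernel with coordinate zero -/
def A₀ : Subgroup ↥(PS π ω₀) where
  carrier := {p | π p = 1 ∧ ι p ω₀ = 0}
  one_mem' := ⟨map_one π, by show ι (1 : E) ω₀ = 0; rw [H.iota_one]; rfl⟩
  mul_mem' := by
    rintro p q ⟨hp, hp0⟩ ⟨hq, hq0⟩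
    refine ⟨by show π (p * q : E) = 1; rw [map_mul, hp, hq, one_mul], ?_⟩
    show ι (p * q : E) ω₀ = 0
    rw [H.add _ _ hp hq, Pi.add_apply, hp0, hq0, add_zero]
  inv_mem' := by
    rintro p ⟨hp, hp0⟩
    refine ⟨by show π ((p : E)⁻¹) = 1; rw [map_inv, hp, inv_one], ?_⟩
    show ι ((p : E)⁻¹) ω₀ = 0
    rw [H.iota_inv _ hp, hp0]

theorem mem_A₀ (p : ↥(PS π ω₀)) : p ∈ H.A₀ ↔ (π p = 1 ∧ ι p ω₀ = 0) := Iff.rfl

instance A₀_normal : (H.A₀).Normal := by
  constructor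
  rintro a ⟨ha, ha0⟩ p
  refine ⟨?_, ?_⟩
  · show π (p * a * (p : E)⁻¹ : E) = 1
    rw [map_mul, map_mul, ha, mul_one, map_inv, mul_inv_cancel]
  · show ι (p * a * (p : E)⁻¹ : E) ω₀ = 0
    rw [H.equiv _ _ ha, tw_apply, stab_inv p, ha0]

/-- the restriction of the projection -/
def tau (π : E →* G) (ω₀ : Ω) : ↥(PS π ω₀) →* ↥(stabilizer G ω₀) := π.subgroupComap (stabilizer G ω₀)

theorem tau_apply (p : ↥(PS π ω₀)) : ((tau π ω₀ p : ↥(stabilizer G ω₀)) : G) = π p := rfl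

theorem tau_eq_one_iff (p : ↥(PS π ω₀)) : tau π ω₀ p = 1 ↔ π p = 1 := by
  constructor
  · intro h; exact congrArg Subtype.val h
  · intro h; exact Subtype.ext h

include H in
theorem tau_surjective : Function.Surjective (tau π ω₀) :=
  MonoidHom.subgroupComap_surjective_of_surjective π _ H.surj

theorem A₀_le_ker : H.A₀ ≤ (tau π ω₀).ker := by
  intro p hp
  rw [MonoidHom.mem_ker, tau_eq_one_iff]
  exact hp.1

/-- the central extension -/
abbrev Gam : Type u := ↥(PS π ω₀) ⧸ H.A₀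

/-- the projection of the central extension -/
def sg : H.Gam →* ↥(stabilizer G ω₀) := QuotientGroup.lift H.A₀ (tau π ω₀) H.A₀_le_ker

theorem sg_mk (p : ↥(PS π ω₀)) : H.sg (QuotientGroup.mk p) = tau π ω₀ p := rfl

theorem sg_surjective : Function.Surjective H.sg := by
  intro q
  obtain ⟨p, rfl⟩ := H.tau_surjective q
  exact ⟨QuotientGroup.mk p, rfl⟩

theorem mk_mem_ker_iff (p : ↥(PS π ω₀)) :
    (QuotientGroup.mk p : H.Gam) ∈ H.sg.ker ↔ π p = 1 := by
  rw [MonoidHom.mem_ker, sg_mk, tau_eq_one_iff]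

theorem mk_eq_one_iff (p : ↥(PS π ω₀)) (hp : π p = 1) :
    (QuotientGroup.mk p : H.Gam) = 1 ↔ ι p ω₀ = 0 := by
  rw [QuotientGroup.eq_one_iff, mem_A₀]
  exact ⟨fun h => h.2, fun h => ⟨hp, h⟩⟩

theorem comm_mem_A₀ (a : ↥(PS π ω₀)) (ha : π a = 1) (p : ↥(PS π ω₀)) : ⁅p, a⁆ ∈ H.A₀ := by
  have hpa : π (p * a * (p : E)⁻¹ : E) = 1 := by
    rw [map_mul, map_mul, ha, mul_one, map_inv, mul_inv_cancel]
  have hai : π ((a : E)⁻¹) = 1 := by rw [map_inv, ha, inv_one]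
  rw [mem_A₀]
  have e : ((⁅p, a⁆ : ↥(PS π ω₀)) : E) = (p * a * (p : E)⁻¹) * (a : E)⁻¹ := by
    rw [commutatorElement_def]; rfl
  rw [e]
  refine ⟨by rw [map_mul, hpa, hai, one_mul], ?_⟩
  rw [H.add _ _ hpa hai, Pi.add_apply, H.equiv _ _ ha, tw_apply, stab_inv p, H.iota_inv _ ha]
  exact zmod2_add_self _

theorem ker_le_center : H.sg.ker ≤ Subgroup.center H.Gam := by
  intro γ hγ
  obtain ⟨a, rfl⟩ := QuotientGroup.mk_surjective γ
  rw [Subgroup.mem_center_iff]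
  intro δ
  obtain ⟨p, rfl⟩ := QuotientGroup.mk_surjective δ
  have ha : π a = 1 := (H.mk_mem_ker_iff a).mp hγ
  have h1 := H.comm_mem_A₀ a ha p
  have h2 : ((⁅p, a⁆ : ↥(PS π ω₀)) : H.Gam) = 1 := (QuotientGroup.eq_one_iff _).mpr h1
  rw [commutatorElement_def] at h2
  simp only [QuotientGroup.mk_mul, QuotientGroup.mk_inv] at h2
  rw [mul_inv_eq_one, mul_inv_eq_iff_eq_mul] at h2
  exact h2

/-- two nontrivial elements of the kernel are equal -/
theorem ker_eq_of_ne_one (γ γ' : H.Gam) (hγ : γ ∈ H.sg.ker) (hγ' : γ' ∈ H.sg.ker) (h1 : γ ≠ 1)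
    (h1' : γ' ≠ 1) : γ = γ' := by
  obtain ⟨a, rfl⟩ := QuotientGroup.mk_surjective γ
  obtain ⟨b, rfl⟩ := QuotientGroup.mk_surjective γ'
  have ha : π a = 1 := (H.mk_mem_ker_iff a).mp hγ
  have hb : π b = 1 := (H.mk_mem_ker_iff b).mp hγ'
  have ha1 : ι a ω₀ = 1 := by
    have := (not_congr (H.mk_eq_one_iff a ha)).mp h1
    have hc : ∀ z : ZMod 2, z ≠ 0 → z = 1 := by decide
    exact hc _ this
  have hb1 : ι b ω₀ = 1 := by
    have := (not_congr (H.mk_eq_one_iff b hb)).mp h1'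
    have hc : ∀ z : ZMod 2, z ≠ 0 → z = 1 := by decide
    exact hc _ this
  have hab : π ((a⁻¹ * b : ↥(PS π ω₀)) : E) = 1 := by
    show π ((a : E)⁻¹ * b) = 1
    rw [map_mul, map_inv, ha, hb, inv_one, one_mul]
  have h2 : (QuotientGroup.mk (a⁻¹ * b) : H.Gam) = 1 := by
    rw [H.mk_eq_one_iff _ hab]
    show ι ((a : E)⁻¹ * b) ω₀ = 0
    rw [H.add _ _ (by rw [map_inv, ha, inv_one]) hb, Pi.add_apply, H.iota_inv _ ha, ha1, hb1]
    decide
  rw [QuotientGroup.mk_mul, QuotientGroup.mk_inv, inv_mul_eq_one] at h2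
  exact h2

/-- the kernel has two elements when the coordinate does not vanish -/
theorem card_ker (n : E) (hn : π n = 1) (hn1 : ι n ω₀ ≠ 0) : Nat.card H.sg.ker = 2 := by
  have hnP : n ∈ PS π ω₀ := by
    show π n ∈ stabilizer G ω₀
    rw [hn]; exact Subgroup.one_mem _
  set z : H.Gam := QuotientGroup.mk ⟨n, hnP⟩ with hz
  have hzk : z ∈ H.sg.ker := (H.mk_mem_ker_iff _).mpr hn
  have hz1 : z ≠ 1 := fun h => hn1 ((H.mk_eq_one_iff ⟨n, hnP⟩ hn).mp h)
  rw [Nat.card_eq_two_iff]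
  refine ⟨⟨z, hzk⟩, 1, ?_, ?_⟩
  · intro h
    exact hz1 (congrArg Subtype.val h)
  · rw [Set.eq_univ_iff_forall]
    rintro ⟨γ, hγ⟩
    by_cases h : γ = 1
    · right
      exact Subtype.ext h
    · left
      exact Subtype.ext (H.ker_eq_of_ne_one γ z hγ hzk h hz1)

include H in
/-- the extension of the coordinate from a complement modulo the elements with coordinate zero -/
theorem chi_of_sub (L : Subgroup ↥(PS π ω₀))
    (hL1 : ∀ p : ↥(PS π ω₀), ∃ a : ↥(PS π ω₀), π a = 1 ∧ p * a ∈ L)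
    (hL2 : ∀ p ∈ L, π p = 1 → ι p ω₀ = 0) :
    ∃ χ : E → ZMod 2,
      (∀ e e' : E, π e • ω₀ = ω₀ → π e' • ω₀ = ω₀ → χ (e * e') = χ e + χ e') ∧
      (∀ n : E, π n = 1 → χ n = ι n ω₀) := by
  have hex : ∀ e : E, π e • ω₀ = ω₀ → ∃ n : E, π n = 1 ∧
      ∃ h : e * n ∈ PS π ω₀, (⟨e * n, h⟩ : ↥(PS π ω₀)) ∈ L := by
    intro e he
    have heS : e ∈ PS π ω₀ := by
      rw [Subgroup.mem_comap]; exact mem_stabilizer_iff.mpr he
    obtain ⟨a, ha, hpa⟩ := hL1 ⟨e, heS⟩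
    exact ⟨a, ha, (⟨e, heS⟩ * a : ↥(PS π ω₀)).2, hpa⟩
  classical
  let χ : E → ZMod 2 := fun e =>
    if he : π e • ω₀ = ω₀ then ι (Classical.choose (hex e he)) ω₀ else 0
  have hχ : ∀ (e : E) (n : E), π n = 1 → ∀ h : e * n ∈ PS π ω₀,
      (⟨e * n, h⟩ : ↥(PS π ω₀)) ∈ L → χ e = ι n ω₀ := by
    intro e n hn h hL
    have he : π e • ω₀ = ω₀ := by
      have h1 : π (e * n) ∈ stabilizer G ω₀ := h
      rw [map_mul, hn, mul_one] at h1
      exact mem_stabilizer_iff.mp h1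
    have hχe : χ e = ι (Classical.choose (hex e he)) ω₀ := dif_pos he
    rw [hχe]
    obtain ⟨hn', h', hL'⟩ := Classical.choose_spec (hex e he)
    set n' := Classical.choose (hex e he) with hn'def
    have hq : ((⟨e * n, h⟩ : ↥(PS π ω₀))⁻¹ * ⟨e * n', h'⟩ : ↥(PS π ω₀)) ∈ L :=
      L.mul_mem (L.inv_mem hL) hL'
    have hq1 : π (((⟨e * n, h⟩ : ↥(PS π ω₀))⁻¹ * ⟨e * n', h'⟩ : ↥(PS π ω₀)) : E) = 1 := by
      show π ((e * n)⁻¹ * (e * n')) = 1
      rw [map_mul, map_inv, map_mul, map_mul, hn, hn', mul_one, inv_mul_cancel]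
    have hq2 := hL2 _ hq hq1
    have e1 : (((⟨e * n, h⟩ : ↥(PS π ω₀))⁻¹ * ⟨e * n', h'⟩ : ↥(PS π ω₀)) : E) = n⁻¹ * n' := by
      show (e * n)⁻¹ * (e * n') = n⁻¹ * n'
      group
    rw [e1, H.add _ _ (by rw [map_inv, hn, inv_one]) hn', Pi.add_apply, H.iota_inv _ hn] at hq2
    have h2 := zmod2_add_self (ι n ω₀)
    linear_combination hq2 - h2
  refine ⟨χ, ?_, ?_⟩
  · intro e e' he he'
    obtain ⟨n, hn, h, hL⟩ := hex e he
    obtain ⟨n', hn', h', hL'⟩ := hex e' he'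
    rw [hχ e n hn h hL, hχ e' n' hn' h' hL']
    have hc : π (e'⁻¹ * n * e') = 1 := by
      rw [map_mul, map_mul, hn, mul_one, map_inv, inv_mul_cancel]
    have hprod : e * e' * (e'⁻¹ * n * e' * n') = (e * n) * (e' * n') := by group
    have hmem : e * e' * (e'⁻¹ * n * e' * n') ∈ PS π ω₀ := by
      rw [hprod]; exact (PS π ω₀).mul_mem h h'
    have hLp : (⟨e * e' * (e'⁻¹ * n * e' * n'), hmem⟩ : ↥(PS π ω₀)) ∈ L := by
      have : (⟨e * e' * (e'⁻¹ * n * e' * n'), hmem⟩ : ↥(PS π ω₀)) = ⟨e * n, h⟩ * ⟨e' * n', h'⟩ :=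
        Subtype.ext hprod
      rw [this]
      exact L.mul_mem hL hL'
    rw [hχ (e * e') (e'⁻¹ * n * e' * n') (by rw [map_mul, hc, hn', one_mul]) hmem hLp]
    rw [H.add _ _ hc hn', Pi.add_apply]
    congr 1
    have h3 := H.equiv e'⁻¹ n hn
    rw [inv_inv] at h3
    rw [h3, tw_apply, map_inv, inv_inv, he']
  · intro n hn
    have hmem : n * n⁻¹ ∈ PS π ω₀ := by
      rw [mul_inv_cancel]; exact (PS π ω₀).one_mem
    have hL : (⟨n * n⁻¹, hmem⟩ : ↥(PS π ω₀)) ∈ L := by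
      have : (⟨n * n⁻¹, hmem⟩ : ↥(PS π ω₀)) = 1 := Subtype.ext (mul_inv_cancel n)
      rw [this]; exact L.one_mem
    rw [hχ n n⁻¹ (by rw [map_inv, hn, inv_one]) hmem hL, H.iota_inv _ hn]

/-- the central extension is a stem extension, or the coordinate extends -/
theorem stem_or_chi (hperf : commutator (stabilizer G ω₀) = ⊤) :
    Cfsg.IsStemExtension H.sg ∨ ∃ χ : E → ZMod 2,
      (∀ e e' : E, π e • ω₀ = ω₀ → π e' • ω₀ = ω₀ → χ (e * e') = χ e + χ e') ∧
      (∀ n : E, π n = 1 → χ n = ι n ω₀) := by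
  by_cases hst : H.sg.ker ≤ commutator H.Gam
  · exact Or.inl ⟨H.sg_surjective, H.ker_le_center, hst⟩
  · right
    obtain ⟨z, hzk, hzD⟩ := SetLike.not_le_iff_exists.mp hst
    have hz1 : z ≠ 1 := fun h => hzD (h ▸ Subgroup.one_mem _)
    apply H.chi_of_sub ((commutator H.Gam).comap (QuotientGroup.mk' H.A₀))
    · intro p
      have hmap := map_commutator_of_surjective H.sg H.sg_surjective
      have hg : H.sg (QuotientGroup.mk p) ∈ (commutator H.Gam).map H.sg := by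
        rw [hmap, hperf]; exact Subgroup.mem_top _
      obtain ⟨d, hd, hdg⟩ := hg
      obtain ⟨q, rfl⟩ := QuotientGroup.mk_surjective d
      refine ⟨p⁻¹ * q, ?_, ?_⟩
      · have h1 : H.sg (QuotientGroup.mk (p⁻¹ * q)) = 1 := by
          rw [QuotientGroup.mk_mul, QuotientGroup.mk_inv, map_mul, map_inv, hdg, inv_mul_cancel]
        exact (H.mk_mem_ker_iff _).mp h1
      · rw [Subgroup.mem_comap]
        have : p * (p⁻¹ * q) = q := by group
        rw [this]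
        exact hd
    · intro p hp hp1
      rw [Subgroup.mem_comap] at hp
      have hpk : (QuotientGroup.mk p : H.Gam) ∈ H.sg.ker := (H.mk_mem_ker_iff p).mpr hp1
      by_contra h0
      have hne : (QuotientGroup.mk p : H.Gam) ≠ 1 := fun h => h0 ((H.mk_eq_one_iff p hp1).mp h)
      have := H.ker_eq_of_ne_one _ z hpk hzk hne hz1
      exact hzD (this ▸ hp)

end CoordHyp

end

end Cfsg.Agent.Lib.Helper1.M23Ext
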