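import Cfsg.Agent.Lib.Helper1.M23Ext.EMB

set_option autoImplicit false

/-! # The uniqueness of the nonsplit extension by the quotient of the cocode -/

namespace Cfsg.Agent.Lib.Helper1.M23Ext

open Cfsg Cfsg.Agent.Lib.Helper1 Cfsg.Agent.Lib.Helper1.M23M
open Cfsg.Agent.Lib.Helper1.M23O (gp gv)
open Cfsg.Agent.Lib.Helper5.M23X (W)

open scoped Pointwise

universe u v w

section

variable {G : Type u} [Group G] {Ω : Type v} [MulAction G Ω]

/-- a subgroup conjugate to the standard subgroup without twist gives a complement -/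
theorem exists_complement_of_conj {E : Type w} [Group E] (N : Subgroup E) (ρ : E →* WP G Ω)
    (hinj : Function.Injective ρ) (hg1 : ∀ e : E, (ρ e).g = 1 ↔ e ∈ N)
    (x b : G) (V : AddSubgroup (Ω → ZMod 2)) (hgen : Subgroup.closure ({x, b} : Set G) = ⊤)
    (u : Ω → ZMod 2) (h : conjX u ρ.range = Ystd x b V 0) :
    ∃ H : Subgroup E, H ⊓ N = ⊥ ∧ H ⊔ N = ⊤ := by
  let τ : G →* WP G Ω := (MulAut.conj (WP.base u : WP G Ω)).toMonoidHom.comp WP.sec
  have hτg : ∀ g : G, (τ g).g = g := by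
    intro g
    show ((WP.base u : WP G Ω) * WP.sec g * (WP.base u)⁻¹).g = g
    rw [WP.mul_g, WP.mul_g, WP.inv_g, WP.base_g, WP.sec_g, one_mul, inv_one, mul_one]
  have hτ : ∀ g : G, τ g ∈ ρ.range := by
    intro g
    have h1 : (WP.sec g : WP G Ω) ∈ conjX u ρ.range := by
      rw [h]
      exact sec_le_Ystd_zero x b V hgen ⟨g, rfl⟩
    exact h1
  refine ⟨τ.range.comap ρ, ?_, ?_⟩
  · rw [eq_bot_iff]
    rintro e ⟨he1, he2⟩
    rw [Subgroup.mem_bot]
    obtain ⟨g, hg⟩ := he1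
    have h1 : (ρ e).g = 1 := (hg1 e).mpr he2
    rw [← hg, hτg] at h1
    rw [h1, map_one] at hg
    exact hinj (by rw [← hg, map_one])
  · rw [eq_top_iff]
    intro e _
    obtain ⟨k, hk⟩ := hτ (ρ e).g
    have hkH : k ∈ τ.range.comap ρ := ⟨(ρ e).g, hk.symm⟩
    have hN : k⁻¹ * e ∈ N := by
      rw [← hg1, map_mul, map_inv, WP.mul_g, WP.inv_g, hk, hτg, inv_mul_cancel]
    have : e = k * (k⁻¹ * e) := by group
    rw [this]
    exact Subgroup.mul_mem_sup hkH hN

end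

/-- two nonsplit extensions of the Mathieu group of degree 23 by the quotient of the words on the
24 points by the code and the unit vector of the extra point are isomorphic -/
theorem iso_of_nonsplit {E : Type u} [Group E] [Finite E] (N : Subgroup E) [hN : N.Normal]
    (φ : E ⧸ N ≃* ↥Spor.M23) (θ : W →+ Additive ↥N) (hsurj : Function.Surjective θ)
    (hker : ∀ w : W, θ w = 0 ↔ (w ∈ golayCode ∨ w + Pi.single none 1 ∈ golayCode))
    (hθ : ∀ (g : E) (w : W),
      ((θ (w ∘ ⇑(((φ (QuotientGroup.mk g) : ↥Spor.M23) : Equiv.Perm GolayPt)⁻¹))).toMul : E)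
        = g * ((θ w).toMul : E) * g⁻¹)
    (hns : ∀ H : Subgroup E, H ⊓ N = ⊥ → H ⊔ N ≠ ⊤)
    {E' : Type v} [Group E'] [Finite E'] (N' : Subgroup E') [hN' : N'.Normal]
    (φ' : E' ⧸ N' ≃* ↥Spor.M23) (θ' : W →+ Additive ↥N') (hsurj' : Function.Surjective θ')
    (hker' : ∀ w : W, θ' w = 0 ↔ (w ∈ golayCode ∨ w + Pi.single none 1 ∈ golayCode))
    (hθ' : ∀ (g : E') (w : W),
      ((θ' (w ∘ ⇑(((φ' (QuotientGroup.mk g) : ↥Spor.M23) : Equiv.Perm GolayPt)⁻¹))).toMul : E')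
        = g * ((θ' w).toMul : E') * g⁻¹)
    (hns' : ∀ H : Subgroup E', H ⊓ N' = ⊥ → H ⊔ N' ≠ ⊤) :
    Nonempty (E ≃* E') := by
  obtain ⟨ρ, hinj, hX, hg1⟩ := exists_rho N φ θ hsurj hker hθ
  obtain ⟨ρ', hinj', hX', hg1'⟩ := exists_rho N' φ' θ' hsurj' hker' hθ'
  obtain ⟨u, hu⟩ := classify_Om hX
  obtain ⟨u', hu'⟩ := classify_Om hX'
  have h1 : conjX u ρ.range = Ystd gp gv (Vsub IOm) (s0 IOm) := by
    rcases hu with hu | hu
    · exfalso
      obtain ⟨H, hH1, hH2⟩ := exists_complement_of_conj N ρ hinj hg1 gp gv (Vsub IOm) gen_pv u hu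
      exact hns H hH1 hH2
    · exact hu
  have h1' : conjX u' ρ'.range = Ystd gp gv (Vsub IOm) (s0 IOm) := by
    rcases hu' with hu' | hu'
    · exfalso
      obtain ⟨H, hH1, hH2⟩ :=
        exists_complement_of_conj N' ρ' hinj' hg1' gp gv (Vsub IOm) gen_pv u' hu'
      exact hns' H hH1 hH2
    · exact hu'
  exact ⟨(MonoidHom.ofInjective hinj).trans ((conjXEquiv u ρ.range).symm.trans
    ((MulEquiv.subgroupCongr (h1.trans h1'.symm)).trans ((conjXEquiv u' ρ'.range).trans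
      (MonoidHom.ofInjective hinj').symm)))⟩

end Cfsg.Agent.Lib.Helper1.M23Ext
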