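import Cfsg.Agent.Lib.Helper1.M23Ext.CERT23
import Cfsg.Agent.Lib.Helper1.M23Ext.FIN
import Cfsg.Agent.Lib.Helper1.M23Ext.CHI2

set_option autoImplicit false
set_option maxRecDepth 100000

/-! # Extensions by the words of the code vanishing at the extra point: the case in which the
coordinate at a point extends to the preimage of the stabilizer of the point -/

namespace Cfsg.Agent.Lib.Helper1.M23Ext

open Cfsg Cfsg.Agent.Lib.Helper1
open Cfsg.Agent.Lib.Helper1.M23O (gp gv)
open Cfsg.Agent.Lib.Helper5.M23X (W C0 mem_C0 exists_idx)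

universe u

/-- the restriction of a word to the 23 points -/
def Res23 : W →+ (Om23 → ZMod 2) where
  toFun := fun w ω => w ω.1
  map_zero' := rfl
  map_add' := fun _ _ => rfl

theorem Res23_apply (w : W) (ω : Om23) : Res23 w ω = w ω.1 := rfl

theorem Res23_ofMask (m : ℕ) : Res23 (ofMask m) = ofN IOm23 m := by
  funext ω
  obtain ⟨q, hq⟩ := ω
  cases q with
  | none => exact absurd rfl hq
  | some i => rfl

theorem cw_eq_of_lt {c : ℕ} (hc : c < 2048) : cw c = xorFold bTab 11 c := by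
  show xorFold bTab 11 c ^^^ (if c.testBit 11 then bTab 11 else 0) = xorFold bTab 11 c
  rw [Nat.testBit_lt_two_pow (by omega : c < 2 ^ 11)]
  simp

theorem Res23_mem {w : W} (hw : w ∈ golayCode) (h0 : w none = 0) : Res23 w ∈ V23 IOm23 := by
  obtain ⟨c, hc, hwc⟩ := exists_idx ⟨w, (mem_C0 w).mpr ⟨hw, h0⟩⟩
  have hwc' : w = ofMask (cw c) := hwc
  rw [hwc', cw_eq_of_lt hc, ofMask_xorFold, map_sum]
  apply sum_mem
  intro i hi
  rw [Finset.mem_range] at hi
  by_cases hb : c.testBit i = true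
  · rw [if_pos hb, one_smul, Res23_ofMask]
    exact AddSubgroup.subset_closure ⟨i, hi, rfl⟩
  · rw [if_neg hb, zero_smul, map_zero]
    exact (V23 IOm23).zero_mem

theorem exists_Res23 {v : Om23 → ZMod 2} (hv : v ∈ V23 IOm23) :
    ∃ w : W, w ∈ golayCode ∧ w none = 0 ∧ Res23 w = v := by
  unfold V23 at hv
  induction hv using AddSubgroup.closure_induction with
  | mem f hf =>
    obtain ⟨q, hq, rfl⟩ := hf
    have h1 : ofMask (bTab q) ∈ C0 := by
      have h2 : cw (2 ^ q) = bTab q := xorFold_two_pow bTab 12 q (by omega)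
      rw [← h2]
      apply Cfsg.Agent.Lib.Helper5.M23X.pt_mem
      calc 2 ^ q ≤ 2 ^ 10 := Nat.pow_le_pow_right (by norm_num) (by omega)
        _ < 2048 := by norm_num
    obtain ⟨h3, h4⟩ := (mem_C0 _).mp h1
    exact ⟨ofMask (bTab q), h3, h4, Res23_ofMask _⟩
  | zero => exact ⟨0, golayCode.zero_mem, rfl, map_zero _⟩
  | add f g _ _ ihf ihg =>
    obtain ⟨w, hw, hw0, rfl⟩ := ihf
    obtain ⟨w', hw', hw0', rfl⟩ := ihg
    refine ⟨w + w', golayCode.add_mem hw hw', ?_, map_add _ _ _⟩
    rw [Pi.add_apply, hw0, hw0', add_zero]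
  | neg f _ ih =>
    obtain ⟨w, hw, hw0, rfl⟩ := ih
    refine ⟨-w, golayCode.neg_mem hw, ?_, map_neg _ _⟩
    rw [Pi.neg_apply, hw0, neg_zero]

section

variable {E : Type u} [Group E] (N : Subgroup E) [hN : N.Normal] (φ : E ⧸ N ≃* ↥Spor.M23)
  (ψ : Additive ↥N →+ W)

/-- the coordinates of the elements of the kernel at the 23 points -/
noncomputable def iota23 (e : E) : Om23 → ZMod 2 := Res23 (psiE N ψ e)

theorem iota23_apply (e : E) (ω : Om23) : iota23 N ψ e ω = psiE N ψ e ω.1 := rfl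

variable (hinj : Function.Injective ψ)
  (hrange : ∀ w : W, w ∈ Set.range ψ ↔ (w ∈ golayCode ∧ w none = 0))
  (hψ : ∀ (g : E) (n : ↥N),
    ψ (Additive.ofMul ⟨g * n * g⁻¹, hN.conj_mem n n.2 g⟩)
      = ψ (Additive.ofMul n) ∘ ⇑(((φ (QuotientGroup.mk g) : ↥Spor.M23) : Equiv.Perm GolayPt)⁻¹))

include hψ in
theorem coordHyp23 : CoordHyp (piE N φ) (iota23 N ψ) (om23 0) where
  surj := piE_surjective N φ
  add := by
    intro n n' hn hn'
    rw [piE_eq_one_iff] at hn hn'
    unfold iota23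
    rw [psiE_mul N ψ hn hn', map_add]
  equiv := by
    intro e n hn
    rw [piE_eq_one_iff] at hn
    funext ω
    rw [tw_apply, iota23_apply, iota23_apply, psiE_conj N φ ψ hψ e hn]
    rfl

include hinj hrange hψ in
/-- the case in which the coordinate extends: there is a complement -/
theorem complement_of_chi (χ : E → ZMod 2)
    (hχ1 : ∀ e e' : E, piE N φ e • om23 0 = om23 0 → piE N φ e' • om23 0 = om23 0 →
      χ (e * e') = χ e + χ e')
    (hχ2 : ∀ n : E, piE N φ n = 1 → χ n = iota23 N ψ n (om23 0)) :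
    ∃ H : Subgroup E, H ⊓ N = ⊥ ∧ H ⊔ N = ⊤ := by
  have HC := coordHyp23 N φ ψ hψ
  have H : SEHyp (piE N φ) (iota23 N ψ) (om23 0) χ :=
    { surj := HC.surj
      trans := om23_trans
      add := HC.add
      inj := by
        intro n hn h0
        rw [piE_eq_one_iff] at hn
        apply psiE_eq_zero N ψ hinj hn
        funext q
        cases q with
        | none => exact (psiE_mem N ψ hrange hn).2
        | some i =>
          have := congrFun h0 ⟨some i, Option.some_ne_none _⟩
          exact this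
      equiv := HC.equiv
      chi_mul := hχ1
      chi_ker := hχ2 }
  have hg1 : ∀ e : E, (H.rho e).g = 1 ↔ e ∈ N := by
    intro e
    rw [H.rho_g]
    exact piE_eq_one_iff N φ e
  have hX : IsExtSub H.rho.range (V23 IOm23) := by
    refine ⟨?_, ?_, ?_⟩
    · rintro _ ⟨e, rfl⟩ hg
      rw [H.rho_g] at hg
      rw [H.rho_ker e hg, WP.base_f]
      have hn := (piE_eq_one_iff N φ e).mp hg
      obtain ⟨h1, h2⟩ := psiE_mem N ψ hrange hn
      exact Res23_mem h1 h2
    · intro v hv
      obtain ⟨w, hw, hw0, rfl⟩ := exists_Res23 hv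
      obtain ⟨a, ha, hpa⟩ := exists_psiE N ψ hrange w hw hw0
      refine ⟨a, ?_⟩
      rw [H.rho_ker _ ((piE_eq_one_iff N φ a).mpr ha)]
      unfold iota23
      rw [hpa]
    · intro g
      obtain ⟨e, rfl⟩ := HC.surj g
      exact ⟨H.rho e, ⟨e, rfl⟩, rfl⟩
  obtain ⟨u, hu⟩ := classify_Om23 hX
  exact exists_complement_of_conj N H.rho H.rho_injective hg1 gp gv (V23 IOm23) gen_pv u hu

end

end Cfsg.Agent.Lib.Helper1.M23Ext
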