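import Cfsg.Agent.Lib.Helper1.M23Mult

set_option autoImplicit false
set_option maxRecDepth 100000

/-! # The action of the Mathieu group of degree 23 on the 1288 dodecads through the extra point -/

namespace Cfsg.Agent.Lib.Helper1.M23Ext

open Cfsg Cfsg.Agent.Lib.Helper1 Cfsg.Agent.Lib.Helper1.M23M
open Cfsg.Agent.Lib.Helper9.M24 (mset mset_injOn natOfPt)

open scoped Pointwise

/-- the number of points -/
abbrev nΩ : ℕ := 1288

theorem DL_distinct : (List.range 1288).all (fun j => (List.range j).all (fun j' => DL j != DL j')) = true := by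
  decide +kernel

theorem DL_inj (j j' : ℕ) (hj : j < 1288) (hj' : j' < 1288) (h : DL j = DL j') : j = j' := by
  have key : ∀ a b : ℕ, a < 1288 → b < a → DL a ≠ DL b := by
    intro a b ha hb
    have h1 := DL_distinct
    rw [List.all_eq_true] at h1
    have h2 := h1 a (List.mem_range.mpr ha)
    rw [List.all_eq_true] at h2
    have h3 := h2 b (List.mem_range.mpr hb)
    rw [bne_iff_ne] at h3
    exact h3
  rcases Nat.lt_trichotomy j j' with hlt | heq | hgt
  · exact absurd h.symm (key j' j hj' hlt)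
  · exact heq
  · exact absurd h (key j j' hj hgt)

theorem pt_inj (j j' : ℕ) (hj : j < 1288) (hj' : j' < 1288) (h : pt j = pt j') : j = j' :=
  DL_inj j j' hj hj' (mset_injOn (DL_lt j) (DL_lt j') h)

/-- the set of the points -/
def PS : Set (Finset GolayPt) := {s | ∃ j, j < 1288 ∧ s = pt j}

theorem pi_lt (i j : ℕ) : D.pi i j < 2048 := Nat.mod_lt _ (by norm_num)

theorem pi_ok' : (List.range 3).all (fun i => (List.range 1288).all (fun j => decide (D.pi i j < 1288))) = true := by
  decide +kernel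

theorem pi_lt' (i j : ℕ) (hi : i < 3) (hj : j < 1288) : D.pi i j < 1288 := by
  have h := pi_ok'
  rw [List.all_eq_true] at h
  have h1 := h i (List.mem_range.mpr hi)
  rw [List.all_eq_true] at h1
  have h2 := h1 j (List.mem_range.mpr hj)
  exact of_decide_eq_true h2

theorem gen_smul_mem (i : ℕ) (hi : i < 3) {s : Finset GolayPt} (hs : s ∈ PS) :
    GG.getD i 1 • s ∈ PS := by
  obtain ⟨j, hj, rfl⟩ := hs
  exact ⟨D.pi i j, pi_lt' i j hi hj, pi_act i hi j hj⟩

theorem gen_pow_smul_mem (i : ℕ) (hi : i < 3) (k : ℕ) {s : Finset GolayPt} (hs : s ∈ PS) :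
    (GG.getD i 1) ^ k • s ∈ PS := by
  induction k with
  | zero => simpa using hs
  | succ k ih =>
    rw [pow_succ', mul_smul]
    exact gen_smul_mem i hi ih

theorem gen_inv_smul_mem (i : ℕ) (hi : i < 3) {s : Finset GolayPt} (hs : s ∈ PS) :
    (GG.getD i 1)⁻¹ • s ∈ PS := by
  obtain ⟨⟨c, hc⟩, hpow⟩ := hodd i hi
  have h1 : (GG.getD i 1)⁻¹ = (GG.getD i 1) ^ (2 * c) := by
    rw [inv_eq_iff_mul_eq_one, ← pow_succ', ← hc, hpow]
  rw [h1]
  exact gen_pow_smul_mem i hi _ hs

theorem smul_mem_PS (g : ↥Cfsg.Spor.M23) {s : Finset GolayPt} (hs : s ∈ PS) : g • s ∈ PS := by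
  have hg : g ∈ Subgroup.closure {g | ∃ i < D.k, g = GG.getD i 1} := by
    rw [hgen]; exact Subgroup.mem_top _
  have key : ∀ s ∈ PS, g • s ∈ PS ∧ g⁻¹ • s ∈ PS := by
    induction hg using Subgroup.closure_induction with
    | mem g hg =>
      obtain ⟨i, hi, rfl⟩ := hg
      intro s hs
      exact ⟨gen_smul_mem i hi hs, gen_inv_smul_mem i hi hs⟩
    | one => intro s hs; simpa using hs
    | mul a b _ _ iha ihb =>
      intro s hs
      constructor
      · rw [mul_smul]; exact (iha _ (ihb s hs).1).1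
      · rw [mul_inv_rev, mul_smul]; exact (ihb _ (iha s hs).2).2
    | inv a _ iha =>
      intro s hs
      rw [inv_inv]
      exact ⟨(iha s hs).2, (iha s hs).1⟩
  exact (key s hs).1

/-- the points as a set with an action -/
def omSub : SubMulAction ↥Cfsg.Spor.M23 (Finset GolayPt) where
  carrier := PS
  smul_mem' := fun g _ hs => smul_mem_PS g hs

/-- the type of the points -/
abbrev Om : Type := ↥omSub

/-- the point with a given index -/
def om (j : ℕ) : Om := ⟨pt (j % 1288), ⟨j % 1288, Nat.mod_lt _ (by norm_num), rfl⟩⟩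

theorem om_val (j : ℕ) (hj : j < 1288) : (om j : Finset GolayPt) = pt j := by
  show pt (j % 1288) = pt j
  rw [Nat.mod_eq_of_lt hj]

/-- the index of a point -/
noncomputable def idx (ω : Om) : ℕ := Classical.choose ω.2

theorem idx_lt (ω : Om) : idx ω < 1288 := (Classical.choose_spec ω.2).1

theorem om_idx (ω : Om) : om (idx ω) = ω := by
  apply Subtype.ext
  rw [om_val _ (idx_lt ω)]
  exact (Classical.choose_spec ω.2).2.symm

theorem idx_om (j : ℕ) (hj : j < 1288) : idx (om j) = j := by
  have h1 := om_idx (om j)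
  have h2 := congrArg Subtype.val h1
  rw [om_val _ (idx_lt _), om_val _ hj] at h2
  exact pt_inj _ _ (idx_lt _) hj h2

theorem gen_smul_om (i : ℕ) (hi : i < 3) (j : ℕ) (hj : j < 1288) :
    GG.getD i 1 • om j = om (D.pi i j) := by
  apply Subtype.ext
  show GG.getD i 1 • (om j : Finset GolayPt) = (om (D.pi i j) : Finset GolayPt)
  rw [om_val _ hj, om_val _ (pi_lt' i j hi hj)]
  exact pi_act i hi j hj

theorem om_surj (ω : Om) : ∃ j, j < 1288 ∧ om j = ω := ⟨idx ω, idx_lt ω, om_idx ω⟩

end Cfsg.Agent.Lib.Helper1.M23Ext
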