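import Cfsg.Agent.Lib.Helper1.M23Ext.VEC
import Cfsg.Agent.Lib.Helper1.M23Ext.OM
import Cfsg.Agent.Lib.Helper1.M23Ext.CD

set_option autoImplicit false
set_option maxRecDepth 100000

/-! # The certificate for the derivations on the functions on the 1288 dodecads -/

namespace Cfsg.Agent.Lib.Helper1.M23Ext

open Cfsg.Agent.Lib.Helper1.M23M (D)

universe u v

/-- the relators -/
def relL : List (List Bool) := CD.baseL.map (fun p => (List.replicate p.2 p.1).flatten)

/-- the columns of the matrices of the certificate -/
def Acol (r k : ℕ) : ℕ :=
  if (CD.posN.getD r 0 >>> (11 * k)) % 2 ^ 11 = 0 then 0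
  else (CD.colsN.getD r 0 >>> (1288 * ((CD.posN.getD r 0 >>> (11 * k)) % 2 ^ 11 - 1))) % 2 ^ 1288

/-- the table of the first generator -/
def px (j : ℕ) : ℕ := D.pi 0 j

/-- the table of the third generator -/
def pb (j : ℕ) : ℕ := D.pi 2 j

/-- cons with an evaluated head -/
def fcons (n : ℕ) (l : List ℕ) : List ℕ := Nat.rec (0 :: l) (fun m _ => (m + 1) :: l) n

theorem fcons_eq (n : ℕ) (l : List ℕ) : fcons n l = n :: l := by cases n <;> rfl

/-- map with evaluated values -/
def fmap (f : ℕ → ℕ) : List ℕ → List ℕ
  | [] => []
  | a :: l => fcons (f a) (fmap f l)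

theorem fmap_eq (f : ℕ → ℕ) (l : List ℕ) : fmap f l = l.map f := by
  induction l with
  | nil => rfl
  | cons a l ih => simp only [fmap, fcons_eq, ih, List.map_cons]

/-- the action of a word on the indices -/
def actW : List Bool → ℕ → ℕ
  | [], j => j
  | l :: r, j => (if l then pb else px) (actW r j)

/-- the successive images of a list -/
def blocks (f : ℕ → ℕ) : ℕ → List ℕ → List ℕ
  | 0, _ => []
  | o + 1, cur => cur ++ blocks f o (fmap f cur)

theorem dlist_append (w r : List Bool) (j : ℕ) :
    dlist px pb (w ++ r) j = dlist px pb w j ++ (dlist px pb r j).map (actW w) := by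
  induction w with
  | nil => simp [dlist, actW]
  | cons l w ih =>
    simp only [List.cons_append, dlist, ih, List.map_append, List.map_map, List.append_assoc]
    congr 2

theorem map_blocks (f : ℕ → ℕ) (o : ℕ) (cur : List ℕ) :
    (blocks f o cur).map f = blocks f o (fmap f cur) := by
  induction o generalizing cur with
  | zero => rfl
  | succ o ih =>
    simp only [blocks, List.map_append, ih]
    rw [fmap_eq f cur]

theorem dlist_pow (w : List Bool) (o j : ℕ) :
    dlist px pb (List.replicate o w).flatten j = blocks (actW w) o (dlist px pb w j) := by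
  induction o with
  | zero => simp [dlist, blocks]
  | succ o ih =>
    rw [List.replicate_succ, List.flatten_cons, dlist_append, ih, map_blocks]
    rfl

/-- the list of the points in the value of `Dop` along a relator on an indicator function -/
def dl (ri j : ℕ) : List ℕ :=
  blocks (actW (CD.baseL.getD ri ([], 0)).1) (CD.baseL.getD ri ([], 0)).2
    (fmap (fun i => i) (dlist px pb (CD.baseL.getD ri ([], 0)).1 j))

theorem dl_eq (ri j : ℕ) : dl ri j = dlist px pb (relL.getD ri []) j := by
  have h : relL.getD ri [] = (List.replicate (CD.baseL.getD ri ([], 0)).2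
      (CD.baseL.getD ri ([], 0)).1).flatten := by
    unfold relL
    have := List.getD_map (f := fun p : List Bool × ℕ => (List.replicate p.2 p.1).flatten)
      (l := CD.baseL) (n := ri) (d := ([], 0))
    simpa using this
  rw [h, dlist_pow, dl, fmap_eq, List.map_id']

/-- the value of the map of the certificate on an indicator function -/
def accA (j : ℕ) : ℕ :=
  2 ^ j ^^^ xorL ((List.range 9).flatMap (fun ri => (dl ri j).map (Acol ri)))

/-- a combination of the generators of the target -/
def combo (c : ℕ) : ℕ := xorL ((bitsBelow 81 c).map (fun t => CD.TgenL.getD t 0))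

/-- the check of the certificate at one indicator function -/
def chkOne (j : ℕ) : Bool := accA j == combo ((CD.coefAN >>> (81 * j)) % 2 ^ 81)

/-- the check of the certificate on a block of indicator functions -/
def chkBlk (k : ℕ) : Bool := (List.range 92).all (fun i => chkOne (92 * k + i))

theorem chkA_0 : chkBlk 0 = true := by decide +kernel

theorem chkA_1 : chkBlk 1 = true := by decide +kernel

theorem chkA_2 : chkBlk 2 = true := by decide +kernel

theorem chkA_3 : chkBlk 3 = true := by decide +kernel

theorem chkA_4 : chkBlk 4 = true := by decide +kernel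

theorem chkA_5 : chkBlk 5 = true := by decide +kernel

theorem chkA_6 : chkBlk 6 = true := by decide +kernel

theorem chkA_7 : chkBlk 7 = true := by decide +kernel

theorem chkA_8 : chkBlk 8 = true := by decide +kernel

theorem chkA_9 : chkBlk 9 = true := by decide +kernel

theorem chkA_10 : chkBlk 10 = true := by decide +kernel

theorem chkA_11 : chkBlk 11 = true := by decide +kernel

theorem chkA_12 : chkBlk 12 = true := by decide +kernel

theorem chkA_13 : chkBlk 13 = true := by decide +kernel

theorem chkBlk_all (k : ℕ) (hk : k < 14) : chkBlk k = true := by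
  interval_cases k
  · exact chkA_0
  · exact chkA_1
  · exact chkA_2
  · exact chkA_3
  · exact chkA_4
  · exact chkA_5
  · exact chkA_6
  · exact chkA_7
  · exact chkA_8
  · exact chkA_9
  · exact chkA_10
  · exact chkA_11
  · exact chkA_12
  · exact chkA_13

theorem chkA (j : ℕ) (hj : j < 1288) :
    accA j = combo ((CD.coefAN >>> (81 * j)) % 2 ^ 81) := by
  have h1 := chkBlk_all (j / 92) (by omega)
  unfold chkBlk at h1
  rw [List.all_eq_true] at h1
  have h2 := h1 (j % 92) (List.mem_range.mpr (Nat.mod_lt _ (by norm_num)))
  rw [Nat.div_add_mod] at h2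
  unfold chkOne at h2
  exact eq_of_beq h2

/-- the matrices of the certificate vanish on the generators of the subgroup -/
def chkBr (r : ℕ) : Bool := (List.range 24).all (fun q =>
    xorL ((bitsBelow 1288 (CD.TgenL.getD q 0)).map (Acol r)) == 0)

theorem chkB_0 : chkBr 0 = true := by decide +kernel

theorem chkB_1 : chkBr 1 = true := by decide +kernel

theorem chkB_2 : chkBr 2 = true := by decide +kernel

theorem chkB_3 : chkBr 3 = true := by decide +kernel

theorem chkB_4 : chkBr 4 = true := by decide +kernel

theorem chkB_5 : chkBr 5 = true := by decide +kernel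

theorem chkB_6 : chkBr 6 = true := by decide +kernel

theorem chkB_7 : chkBr 7 = true := by decide +kernel

theorem chkB_8 : chkBr 8 = true := by decide +kernel

theorem chkB (r : ℕ) (hr : r < 9) (q : ℕ) (hq : q < 24) :
    xorL ((bitsBelow 1288 (CD.TgenL.getD q 0)).map (Acol r)) = 0 := by
  have h1 : chkBr r = true := by
    interval_cases r
    · exact chkB_0
    · exact chkB_1
    · exact chkB_2
    · exact chkB_3
    · exact chkB_4
    · exact chkB_5
    · exact chkB_6
    · exact chkB_7
    · exact chkB_8
  unfold chkBr at h1
  rw [List.all_eq_true] at h1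
  exact eq_of_beq (h1 q (List.mem_range.mpr hq))

/-- the orbit sums are fixed by the first generator, and their images under the third generator -/
def chkOc (c : ℕ) : Bool := (List.range 1288).all (fun j =>
    ((CD.orbL.getD c 0).testBit (px j) == (CD.orbL.getD c 0).testBit j) &&
    ((CD.vorbL.getD c 0).testBit (pb j) == (CD.orbL.getD c 0).testBit j))

/-- a block of these checks -/
def chkOblk (k : ℕ) : Bool := (List.range 8).all (fun i => chkOc (8 * k + i))

theorem chkO_0 : chkOblk 0 = true := by decide +kernel

theorem chkO_1 : chkOblk 1 = true := by decide +kernel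

theorem chkO_2 : chkOblk 2 = true := by decide +kernel

theorem chkO_3 : chkOblk 3 = true := by decide +kernel

theorem chkO_4 : chkOblk 4 = true := by decide +kernel

theorem chkO_5 : chkOblk 5 = true := by decide +kernel

theorem chkO_6 : chkOblk 6 = true := by decide +kernel

theorem chkO (c : ℕ) (hc : c < 56) (j : ℕ) (hj : j < 1288) :
    (CD.orbL.getD c 0).testBit (px j) = (CD.orbL.getD c 0).testBit j ∧
    (CD.vorbL.getD c 0).testBit (pb j) = (CD.orbL.getD c 0).testBit j := by
  have h1 : chkOblk (c / 8) = true := by
    have : c / 8 < 7 := by omega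
    interval_cases (c / 8)
    · exact chkO_0
    · exact chkO_1
    · exact chkO_2
    · exact chkO_3
    · exact chkO_4
    · exact chkO_5
    · exact chkO_6
  unfold chkOblk at h1
  rw [List.all_eq_true] at h1
  have h2 := h1 (c % 8) (List.mem_range.mpr (Nat.mod_lt _ (by norm_num)))
  rw [Nat.div_add_mod] at h2
  unfold chkOc at h2
  rw [List.all_eq_true] at h2
  have h3 := h2 j (List.mem_range.mpr hj)
  rw [Bool.and_eq_true] at h3
  exact ⟨eq_of_beq h3.1, eq_of_beq h3.2⟩

/-- the generators of the coboundaries -/
theorem chkT : (List.range 56).all (fun c =>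
    CD.TgenL.getD (24 + c) 0 == CD.orbL.getD c 0 ^^^ CD.vorbL.getD c 0) = true := by
  decide +kernel

theorem relL_length : relL.length = 9 := by decide +kernel

end Cfsg.Agent.Lib.Helper1.M23Ext
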