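import Cfsg.Agent.Lib.Helper1.M23Ext.CERT

set_option autoImplicit false
set_option maxRecDepth 100000

/-! # The classification of the derivations from the certificate -/

namespace Cfsg.Agent.Lib.Helper1.M23Ext

universe u v

theorem xorL_append (L L' : List ℕ) : xorL (L ++ L') = xorL L ^^^ xorL L' := by
  induction L with
  | nil => simp [xorL]
  | cons a l ih => simp only [List.cons_append, xorL, ih, Nat.xor_assoc]

section cert

variable {G : Type u} [Group G] {Ω : Type v} [MulAction G Ω] (I : IdxData Ω 1288)

theorem ofN_flatMap (L : List ℕ) (f : ℕ → List ℕ) :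
    ofN I (xorL (L.flatMap f)) = (L.map (fun a => ofN I (xorL (f a)))).sum := by
  induction L with
  | nil => simp [xorL, ofN_zero]
  | cons a l ih =>
    rw [List.flatMap_cons, xorL_append, ofN_xor, ih, List.map_cons, List.sum_cons]

/-- the subgroup of the functions from the cocode -/
def Vsub : AddSubgroup (Ω → ZMod 2) :=
  AddSubgroup.closure {f | ∃ q, q < 24 ∧ f = ofN I (CD.TgenL.getD q 0)}

/-- the subgroup of the values of the map of the certificate -/
def Tsub : AddSubgroup (Ω → ZMod 2) :=
  AddSubgroup.closure {f | ∃ t, t < 81 ∧ f = ofN I (CD.TgenL.getD t 0)}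

/-- the function of the twist -/
def s0 : Ω → ZMod 2 := ofN I (CD.TgenL.getD 80 0)

theorem list_sum_hom_apply {A B : Type*} [AddCommMonoid A] [AddCommMonoid B] (L : List ℕ)
    (F : ℕ → A →+ B) (w : A) : ((L.map F).sum : A →+ B) w = (L.map (fun i => F i w)).sum := by
  induction L with
  | nil => simp
  | cons a l ih => simp only [List.map_cons, List.sum_cons, AddMonoidHom.add_apply, ih]

/-- the map of the certificate -/
def Phi (x b : G) : (Ω → ZMod 2) →+ (Ω → ZMod 2) :=
  AddMonoidHom.id _ + ((List.range 9).map
    (fun ri => (matMap I (Acol ri)).comp (DopHom x b (relL.getD ri [])))).sum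

theorem Phi_apply (x b : G) (w : Ω → ZMod 2) :
    Phi I x b w = w + ((List.range 9).map
      (fun ri => matMap I (Acol ri) (Dop x b (relL.getD ri []) w))).sum := by
  unfold Phi
  rw [AddMonoidHom.add_apply, list_sum_hom_apply]
  simp only [AddMonoidHom.id_apply, AddMonoidHom.comp_apply]
  rfl

theorem px_lt (j : ℕ) (hj : j < 1288) : px j < 1288 := by
  unfold px; exact pi_lt' 0 j (by norm_num) hj

theorem pb_lt (j : ℕ) (hj : j < 1288) : pb j < 1288 := by
  unfold pb; exact pi_lt' 2 j (by norm_num) hj

variable (x b : G) (hx : ∀ j, j < 1288 → x • I.om j = I.om (px j))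
  (hb : ∀ j, j < 1288 → b • I.om j = I.om (pb j))

include hx hb in
theorem Phi_single [DecidableEq Ω] (j : ℕ) (hj : j < 1288) :
    Phi I x b (Pi.single (I.om j) 1) = ofN I (accA j) := by
  have e1 : ofN I (accA j) = ofN I (2 ^ j) + ofN I (xorL ((List.range 9).flatMap (fun ri => (dl ri j).map (Acol ri)))) := by
    unfold accA
    exact ofN_xor I _ _
  have key : ∀ ri, matMap I (Acol ri) (Dop x b (relL.getD ri []) (Pi.single (I.om j) 1)) =
      ofN I (xorL (List.map (Acol ri) (dl ri j))) := by
    intro ri
    rw [dl_eq, Dop_single I x b px pb hx hb px_lt pb_lt _ j hj, map_list_sum, List.map_map,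
      ofN_xorL, List.map_map]
    refine congrArg List.sum ?_
    apply List.map_congr_left
    intro i hi
    simp only [Function.comp]
    exact matMap_single I _ i (dlist_lt px pb px_lt pb_lt _ j hj i hi)
  rw [e1, ofN_bit I j hj, ofN_flatMap, Phi_apply]
  simp only [key]

theorem combo_mem (c : ℕ) : ofN I (combo c) ∈ Tsub I := by
  unfold combo
  rw [ofN_xorL, List.map_map]
  apply AddSubgroup.list_sum_mem
  intro f hf
  rw [List.mem_map] at hf
  obtain ⟨t, ht, rfl⟩ := hf
  apply AddSubgroup.subset_closure
  refine ⟨t, ?_, rfl⟩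
  unfold bitsBelow at ht
  rw [List.mem_filter, List.mem_range] at ht
  exact ht.1

include hx hb in
theorem Phi_mem (w : Ω → ZMod 2) : Phi I x b w ∈ Tsub I := by
  classical
  apply addHom_mem_of_single I (Phi I x b) (Tsub I)
  intro j hj
  rw [Phi_single I x b hx hb j hj, chkA j hj]
  exact combo_mem I _

theorem matMap_V (r : ℕ) (hr : r < 9) (v : Ω → ZMod 2) (hv : v ∈ Vsub I) :
    matMap I (Acol r) v = 0 := by
  unfold Vsub at hv
  induction hv using AddSubgroup.closure_induction with
  | mem f hf =>
    obtain ⟨q, hq, rfl⟩ := hf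
    rw [matMap_ofN, chkB r hr q hq, ofN_zero]
  | zero => exact map_zero _
  | add f g _ _ ihf ihg => rw [map_add, ihf, ihg, add_zero]
  | neg f _ ih => rw [map_neg, ih, neg_zero]

theorem fun_add_self (f : Ω → ZMod 2) : f + f = 0 := by
  funext ω; exact zmod2_add_self _

theorem fun_neg (f : Ω → ZMod 2) : -f = f := by
  funext ω; exact ZMod.neg_eq_self_mod_two _

include hx hb in
/-- the classification of the derivations -/
theorem cert (w : Ω → ZMod 2) (hw : ∀ r ∈ relL, Dop x b r w ∈ Vsub I) :
    ∃ u : Ω → ZMod 2, tw x u = u ∧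
      (w + (u + tw b u) ∈ Vsub I ∨ w + s0 I + (u + tw b u) ∈ Vsub I) := by
  have h1 : Phi I x b w = w := by
    rw [Phi_apply]
    have : ((List.range 9).map
        (fun ri => matMap I (Acol ri) (Dop x b (relL.getD ri []) w))).sum = 0 := by
      apply List.sum_eq_zero
      intro f hf
      rw [List.mem_map] at hf
      obtain ⟨ri, hri, rfl⟩ := hf
      rw [List.mem_range] at hri
      apply matMap_V I ri hri
      apply hw
      rw [List.getD_eq_getElem _ _ (by rw [relL_length]; exact hri)]
      exact List.getElem_mem _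
    rw [this, add_zero]
  have h2 : w ∈ Tsub I := by
    rw [← h1]; exact Phi_mem I x b hx hb w
  clear h1 hw
  unfold Tsub at h2
  induction h2 using AddSubgroup.closure_induction with
  | mem f hf =>
    obtain ⟨t, ht, rfl⟩ := hf
    by_cases h24 : t < 24
    · refine ⟨0, tw_zero x, Or.inl ?_⟩
      rw [tw_zero, add_zero, add_zero]
      exact AddSubgroup.subset_closure ⟨t, h24, rfl⟩
    · by_cases h80 : t = 80
      · subst h80
        refine ⟨0, tw_zero x, Or.inr ?_⟩
        rw [tw_zero, add_zero, add_zero]
        show s0 I + s0 I ∈ Vsub I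
        rw [fun_add_self]
        exact (Vsub I).zero_mem
      · obtain ⟨c, rfl⟩ : ∃ c, t = 24 + c := ⟨t - 24, by omega⟩
        have hc : c < 56 := by omega
        have hT : CD.TgenL.getD (24 + c) 0 = CD.orbL.getD c 0 ^^^ CD.vorbL.getD c 0 := by
          have h := chkT
          rw [List.all_eq_true] at h
          exact eq_of_beq (h c (List.mem_range.mpr hc))
        have hu : tw x (ofN I (CD.orbL.getD c 0)) = ofN I (CD.orbL.getD c 0) :=
          tw_ofN I x px hx px_lt _ _ (fun j hj => (chkO c hc j hj).1)
        have hv : tw b (ofN I (CD.orbL.getD c 0)) = ofN I (CD.vorbL.getD c 0) :=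
          tw_ofN I b pb hb pb_lt _ _ (fun j hj => (chkO c hc j hj).2)
        refine ⟨ofN I (CD.orbL.getD c 0), hu, Or.inl ?_⟩
        rw [hT, ofN_xor, hv, fun_add_self]
        exact (Vsub I).zero_mem
  | zero =>
    refine ⟨0, tw_zero x, Or.inl ?_⟩
    rw [tw_zero, add_zero, add_zero]
    exact (Vsub I).zero_mem
  | add f g _ _ ihf ihg =>
    obtain ⟨u, hu, hf⟩ := ihf
    obtain ⟨u', hu', hg⟩ := ihg
    refine ⟨u + u', by rw [tw_add, hu, hu'], ?_⟩
    rw [tw_add]
    rcases hf with hf | hf <;> rcases hg with hg | hg
    · left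
      have := (Vsub I).add_mem hf hg
      convert this using 1
      abel
    · right
      have := (Vsub I).add_mem hf hg
      convert this using 1
      abel
    · right
      have := (Vsub I).add_mem hf hg
      convert this using 1
      abel
    · left
      have := (Vsub I).add_mem hf hg
      convert this using 1
      funext ω
      simp only [Pi.add_apply]
      have h1 := zmod2_add_self (s0 I ω)
      linear_combination (-1 : ZMod 2) * h1
  | neg f _ ih =>
    rw [fun_neg]
    exact ih

end cert

end Cfsg.Agent.Lib.Helper1.M23Ext
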