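import Cfsg.Agent.Lib.Helper1.M23Ext.OM23

set_option autoImplicit false
set_option maxRecDepth 100000

/-! # The certificate for the derivations on the functions on the 23 points modulo the code -/

namespace Cfsg.Agent.Lib.Helper1.M23Ext

open Cfsg Cfsg.Agent.Lib.Helper1

universe u v

/-- the columns of the matrices of the certificate -/
def AL23 : List (List ℕ) := [[0, 0, 0, 0, 0, 0, 0, 0, 0, 0, 0, 0, 0, 0, 0, 0, 0, 0, 0, 0, 0, 0, 0], [0, 0, 0, 0, 9, 0, 0, 0, 0, 0, 0, 442, 9, 435, 0, 442, 435, 435, 0, 9, 9, 442, 442], [0, 0, 0, 0, 0, 0, 0, 0, 0, 0, 0, 0, 0, 0, 0, 0, 0, 0, 0, 0, 0, 0, 0], [0, 0, 0, 0, 0, 0, 0, 0, 0, 0, 0, 0, 0, 0, 0, 0, 0, 0, 0, 0, 0, 0, 0], [0, 0, 0, 0, 0, 0, 0, 0, 0, 0, 0, 2006, 0, 2006, 0, 2006, 2006, 2006, 0, 0, 0, 2006, 2006], [0, 0, 0, 0, 0, 0, 0, 0, 0, 387, 876, 2307, 876, 2307, 751, 2671, 3052, 2176, 0, 387, 751, 3052, 2176], [0, 0, 0, 0, 0, 0, 0, 0, 0, 0, 0, 0, 0, 0, 0, 0, 0, 0, 0, 0, 0, 0, 0], [0, 0, 0, 0, 0, 0, 0, 0, 0, 3188, 2825, 1916, 2825, 1916, 1917, 3189,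 1, 2824, 0, 3188, 1917, 1, 2824], [0, 0, 0, 0, 0, 0, 0, 1238, 0, 0, 780, 111, 2010, 111, 2010, 1973, 867, 1209, 1238, 1238, 2010, 867, 111]]

/-- the coefficients of the values on the indicator functions -/
def coefL23 : List ℕ := [0, 0, 0, 0, 0, 0, 0, 0, 0, 0, 0, 0, 1, 2, 4, 8, 16, 32, 64, 128, 256, 512, 1024]

/-- a column of a matrix of the certificate -/
def Acol23 (r k : ℕ) : ℕ := (AL23.getD r []).getD k 0

/-- the value of the map of the certificate on an indicator function -/
def accA23 (j : ℕ) : ℕ :=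
  2 ^ j ^^^ xorL ((List.range 9).flatMap
    (fun ri => (dlist px23 pb23 (relL.getD ri []) j).map (Acol23 ri)))

/-- a combination of the basis of the code -/
def combo23 (c : ℕ) : ℕ := xorL ((bitsBelow 11 c).map bTab)

theorem chkA23 : (List.range 23).all (fun j => accA23 j == combo23 (coefL23.getD j 0)) = true := by
  decide +kernel

theorem chkB23 : (List.range 9).all (fun r => (List.range 11).all (fun q =>
    xorL ((bitsBelow 23 (bTab q)).map (Acol23 r)) == 0)) = true := by
  decide +kernel

section cert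

variable {G : Type u} [Group G] {Ω : Type v} [MulAction G Ω] {n : ℕ} (I : IdxData Ω n)

theorem ofN_flatMap' (L : List ℕ) (f : ℕ → List ℕ) :
    ofN I (xorL (L.flatMap f)) = (L.map (fun a => ofN I (xorL (f a)))).sum := by
  induction L with
  | nil => simp [xorL, ofN_zero]
  | cons a l ih =>
    rw [List.flatMap_cons, xorL_append, ofN_xor, ih, List.map_cons, List.sum_cons]

end cert

section cert23

variable {G : Type u} [Group G] {Ω : Type v} [MulAction G Ω] (I : IdxData Ω 23)

/-- the subgroup of the functions from the code -/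
def V23 : AddSubgroup (Ω → ZMod 2) :=
  AddSubgroup.closure {f | ∃ q, q < 11 ∧ f = ofN I (bTab q)}

/-- the map of the certificate -/
def Phi23 (x b : G) : (Ω → ZMod 2) →+ (Ω → ZMod 2) :=
  AddMonoidHom.id _ + ((List.range 9).map
    (fun ri => (matMap I (Acol23 ri)).comp (DopHom x b (relL.getD ri [])))).sum

theorem Phi23_apply (x b : G) (w : Ω → ZMod 2) :
    Phi23 I x b w = w + ((List.range 9).map
      (fun ri => matMap I (Acol23 ri) (Dop x b (relL.getD ri []) w))).sum := by
  unfold Phi23
  rw [AddMonoidHom.add_apply, list_sum_hom_apply]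
  simp only [AddMonoidHom.id_apply, AddMonoidHom.comp_apply]
  rfl

variable (x b : G) (hx : ∀ j, j < 23 → x • I.om j = I.om (px23 j))
  (hb : ∀ j, j < 23 → b • I.om j = I.om (pb23 j))

include hx hb in
theorem Phi23_single [DecidableEq Ω] (j : ℕ) (hj : j < 23) :
    Phi23 I x b (Pi.single (I.om j) 1) = ofN I (accA23 j) := by
  have e1 : ofN I (accA23 j) = ofN I (2 ^ j) + ofN I (xorL ((List.range 9).flatMap
      (fun ri => (dlist px23 pb23 (relL.getD ri []) j).map (Acol23 ri)))) := by
    unfold accA23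
    exact ofN_xor I _ _
  have key : ∀ ri, matMap I (Acol23 ri) (Dop x b (relL.getD ri []) (Pi.single (I.om j) 1)) =
      ofN I (xorL (List.map (Acol23 ri) (dlist px23 pb23 (relL.getD ri []) j))) := by
    intro ri
    rw [Dop_single I x b px23 pb23 hx hb px23_lt pb23_lt _ j hj, map_list_sum, List.map_map,
      ofN_xorL, List.map_map]
    refine congrArg List.sum ?_
    apply List.map_congr_left
    intro i hi
    simp only [Function.comp]
    exact matMap_single I _ i (dlist_lt px23 pb23 px23_lt pb23_lt _ j hj i hi)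
  rw [e1, ofN_bit I j hj, ofN_flatMap', Phi23_apply]
  simp only [key]

theorem combo23_mem (c : ℕ) : ofN I (combo23 c) ∈ V23 I := by
  unfold combo23
  rw [ofN_xorL, List.map_map]
  apply AddSubgroup.list_sum_mem
  intro f hf
  rw [List.mem_map] at hf
  obtain ⟨t, ht, rfl⟩ := hf
  apply AddSubgroup.subset_closure
  refine ⟨t, ?_, rfl⟩
  unfold bitsBelow at ht
  rw [List.mem_filter, List.mem_range] at ht
  exact ht.1

include hx hb in
theorem Phi23_mem (w : Ω → ZMod 2) : Phi23 I x b w ∈ V23 I := by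
  classical
  apply addHom_mem_of_single I (Phi23 I x b) (V23 I)
  intro j hj
  have h := chkA23
  rw [List.all_eq_true] at h
  have h1 := eq_of_beq (h j (List.mem_range.mpr hj))
  rw [Phi23_single I x b hx hb j hj, h1]
  exact combo23_mem I _

theorem matMap_V23 (r : ℕ) (hr : r < 9) (v : Ω → ZMod 2) (hv : v ∈ V23 I) :
    matMap I (Acol23 r) v = 0 := by
  unfold V23 at hv
  induction hv using AddSubgroup.closure_induction with
  | mem f hf =>
    obtain ⟨q, hq, rfl⟩ := hf
    have h := chkB23
    rw [List.all_eq_true] at h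
    have h1 := h r (List.mem_range.mpr hr)
    rw [List.all_eq_true] at h1
    have h2 := eq_of_beq (h1 q (List.mem_range.mpr hq))
    rw [matMap_ofN, h2, ofN_zero]
  | zero => exact map_zero _
  | add f g _ _ ihf ihg => rw [map_add, ihf, ihg, add_zero]
  | neg f _ ih => rw [map_neg, ih, neg_zero]

include hx hb in
/-- the derivations with values in the code are the elements of the code -/
theorem cert23 (w : Ω → ZMod 2) (hw : ∀ r ∈ relL, Dop x b r w ∈ V23 I) : w ∈ V23 I := by
  have h1 : Phi23 I x b w = w := by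
    rw [Phi23_apply]
    have : ((List.range 9).map
        (fun ri => matMap I (Acol23 ri) (Dop x b (relL.getD ri []) w))).sum = 0 := by
      apply List.sum_eq_zero
      intro f hf
      rw [List.mem_map] at hf
      obtain ⟨ri, hri, rfl⟩ := hf
      rw [List.mem_range] at hri
      apply matMap_V23 I ri hri
      apply hw
      rw [List.getD_eq_getElem _ _ (by rw [relL_length]; exact hri)]
      exact List.getElem_mem _
    rw [this, add_zero]
  rw [← h1]
  exact Phi23_mem I x b hx hb w

end cert23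

open Cfsg.Agent.Lib.Helper1.M23O (gp gv)

/-- the classification of the extension subgroups over the 23 points up to conjugacy -/
theorem classify_Om23 {X : Subgroup (WP ↥Spor.M23 Om23)} (H : IsExtSub X (V23 IOm23)) :
    ∃ u : Om23 → ZMod 2, conjX u X = Ystd gp gv (V23 IOm23) 0 := by
  obtain ⟨u, hu⟩ := H.classify gp gv 23 (by decide) gp_pow gen_pv relL relL_eval 0
    (fun w hw => ⟨0, tw_zero gp, Or.inl (by
      rw [tw_zero, add_zero, add_zero]
      exact cert23 IOm23 gp gv gp_smul23 gv_smul23 w hw)⟩)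
  exact ⟨u, hu.elim id id⟩

end Cfsg.Agent.Lib.Helper1.M23Ext
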