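import Cfsg.Agent.Lib.Helper1.M23Ext.SE
import Cfsg.Agent.Lib.Helper1.Stem10
import Cfsg.Agent.Lib.Helper1.Stem12

set_option autoImplicit false

/-! # Extending the coordinate at a point to the preimage of its stabilizer

The stabilizer is perfect and all its stem extensions are trivial. -/

namespace Cfsg.Agent.Lib.Helper1.M23Ext

open MulAction Cfsg.Agent.Lib.Helper1.Stem

open scoped commutatorElement

universe u v w

/-- a complement modulo a subgroup of the kernel, over a perfect group without stem extensions -/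
theorem exists_lift_sub {P : Type u} [Group P] [Finite P] {Q : Type v} [Group Q] (τ : P →* Q)
    (hτ : Function.Surjective τ) (hQ : commutator Q = ⊤) (hT : TrivStems.{u} Q)
    (A₀ : Subgroup P) [hn : A₀.Normal] (hA₀ : A₀ ≤ τ.ker)
    (hcen : ∀ a ∈ τ.ker, ∀ p : P, ⁅p, a⁆ ∈ A₀) :
    ∃ L : Subgroup P, (∀ p : P, ∃ a ∈ τ.ker, p * a ∈ L) ∧ (∀ p ∈ L, τ p = 1 → p ∈ A₀) := by
  let σ : P ⧸ A₀ →* Q := QuotientGroup.lift A₀ τ hA₀
  have hσ : ∀ p : P, σ (QuotientGroup.mk p) = τ p := fun p => rfl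
  have hs : Function.Surjective σ := by
    intro q
    obtain ⟨p, rfl⟩ := hτ q
    exact ⟨QuotientGroup.mk p, rfl⟩
  have hc : σ.ker ≤ Subgroup.center (P ⧸ A₀) := by
    intro γ hγ
    obtain ⟨a, rfl⟩ := QuotientGroup.mk_surjective γ
    rw [Subgroup.mem_center_iff]
    intro δ
    obtain ⟨p, rfl⟩ := QuotientGroup.mk_surjective δ
    have ha : a ∈ τ.ker := by
      rw [MonoidHom.mem_ker] at hγ ⊢
      exact hγ
    have h1 := hcen a ha p
    have h2 : ((⁅p, a⁆ : P) : P ⧸ A₀) = 1 := (QuotientGroup.eq_one_iff _).mpr h1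
    rw [commutatorElement_def] at h2
    simp only [QuotientGroup.mk_mul, QuotientGroup.mk_inv] at h2
    rw [mul_inv_eq_one, mul_inv_eq_iff_eq_mul] at h2
    exact h2
  have hK : commutator (⊤ : Subgroup Q) = ⊤ :=
    commutator_eq_top_of_equiv Subgroup.topEquiv.symm hQ
  have hT' : TrivStems.{u} (⊤ : Subgroup Q) := TrivStems.of_equiv Subgroup.topEquiv.symm hT
  refine ⟨(liftSub σ ⊤).comap (QuotientGroup.mk' A₀), ?_, ?_⟩
  · intro p
    obtain ⟨c, hc1, hc2⟩ := exists_mul_mem_liftSub σ hs ⊤ hK (QuotientGroup.mk p) (Subgroup.mem_top _)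
    obtain ⟨a, rfl⟩ := QuotientGroup.mk_surjective c
    refine ⟨a, ?_, ?_⟩
    · rw [MonoidHom.mem_ker] at hc1 ⊢
      exact hc1
    · rw [Subgroup.mem_comap]
      exact hc2
  · intro p hp hp1
    rw [Subgroup.mem_comap] at hp
    have h1 := liftSub_inf_ker σ hs hc ⊤ hK hT' _ hp hp1
    exact (QuotientGroup.eq_one_iff _).mp h1

section

variable {E : Type u} [Group E] [Finite E] {G : Type v} [Group G] {Ω : Type w} [MulAction G Ω]

/-- the coordinate at a point extends to the preimage of the stabilizer -/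
theorem exists_chi (π : E →* G) (ι : E → Ω → ZMod 2) (ω₀ : Ω)
    (surj : Function.Surjective π)
    (add : ∀ n n' : E, π n = 1 → π n' = 1 → ι (n * n') = ι n + ι n')
    (equiv : ∀ (e n : E), π n = 1 → ι (e * n * e⁻¹) = tw (π e) (ι n))
    (hperf : commutator (stabilizer G ω₀) = ⊤) (hT : TrivStems.{u} (stabilizer G ω₀)) :
    ∃ χ : E → ZMod 2,
      (∀ e e' : E, π e • ω₀ = ω₀ → π e' • ω₀ = ω₀ → χ (e * e') = χ e + χ e') ∧
      (∀ n : E, π n = 1 → χ n = ι n ω₀) := by
  have hι1 : ι 1 = 0 := by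
    have h := add 1 1 (map_one π) (map_one π)
    rw [mul_one] at h
    funext ω
    have := congrFun h ω
    simp only [Pi.add_apply, Pi.zero_apply] at this ⊢
    rw [zmod2_add_self] at this
    exact this
  have hιinv : ∀ n : E, π n = 1 → ι n⁻¹ = ι n := by
    intro n hn
    have h := add n n⁻¹ hn (by rw [map_inv, hn, inv_one])
    rw [mul_inv_cancel, hι1] at h
    funext ω
    have h1 := congrFun h ω
    simp only [Pi.add_apply, Pi.zero_apply] at h1
    have h2 := zmod2_add_self (ι n ω)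
    linear_combination -h1 - h2
  let S : Subgroup G := stabilizer G ω₀
  let τ : ↥(S.comap π) →* ↥S := π.subgroupComap S
  have hτ : Function.Surjective τ := MonoidHom.subgroupComap_surjective_of_surjective π S surj
  have hτ1 : ∀ p : ↥(S.comap π), τ p = 1 ↔ π p = 1 := by
    intro p
    constructor
    · intro h; exact congrArg Subtype.val h
    · intro h; exact Subtype.ext h
  have hstab : ∀ p : ↥(S.comap π), (π p)⁻¹ • ω₀ = ω₀ := by
    intro p
    have h : π p ∈ S := p.2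
    rw [inv_smul_eq_iff]
    exact (mem_stabilizer_iff.mp h).symm
  let A₀ : Subgroup ↥(S.comap π) :=
    { carrier := {p | π p = 1 ∧ ι p ω₀ = 0}
      one_mem' := ⟨map_one π, by show ι (1 : E) ω₀ = 0; rw [hι1]; rfl⟩
      mul_mem' := by
        rintro p q ⟨hp, hp0⟩ ⟨hq, hq0⟩
        refine ⟨by show π (p * q : E) = 1; rw [map_mul, hp, hq, one_mul], ?_⟩
        show ι (p * q : E) ω₀ = 0
        rw [add _ _ hp hq, Pi.add_apply, hp0, hq0, add_zero]
      inv_mem' := by
        rintro p ⟨hp, hp0⟩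
        refine ⟨by show π ((p : E)⁻¹) = 1; rw [map_inv, hp, inv_one], ?_⟩
        show ι ((p : E)⁻¹) ω₀ = 0
        rw [hιinv _ hp, hp0] }
  have hA₀mem : ∀ p : ↥(S.comap π), p ∈ A₀ ↔ (π p = 1 ∧ ι p ω₀ = 0) := fun p => Iff.rfl
  have hn : A₀.Normal := by
    constructor
    rintro a ⟨ha, ha0⟩ p
    refine ⟨?_, ?_⟩
    · show π (p * a * (p : E)⁻¹ : E) = 1
      rw [map_mul, map_mul, ha, mul_one, map_inv, mul_inv_cancel]
    · show ι (p * a * (p : E)⁻¹ : E) ω₀ = 0
      rw [equiv _ _ ha, tw_apply, hstab p, ha0]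
  have hA₀ : A₀ ≤ τ.ker := by
    intro p hp
    rw [MonoidHom.mem_ker, hτ1]
    exact hp.1
  have hcen : ∀ a ∈ τ.ker, ∀ p : ↥(S.comap π), ⁅p, a⁆ ∈ A₀ := by
    intro a ha p
    rw [MonoidHom.mem_ker, hτ1] at ha
    have hpa : π (p * a * (p : E)⁻¹ : E) = 1 := by
      rw [map_mul, map_mul, ha, mul_one, map_inv, mul_inv_cancel]
    have hai : π ((a : E)⁻¹) = 1 := by rw [map_inv, ha, inv_one]
    rw [hA₀mem]
    have e : ((⁅p, a⁆ : ↥(S.comap π)) : E) = (p * a * (p : E)⁻¹) * (a : E)⁻¹ := by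
      rw [commutatorElement_def]; rfl
    rw [e]
    refine ⟨by rw [map_mul, hpa, hai, one_mul], ?_⟩
    rw [add _ _ hpa hai, Pi.add_apply, equiv _ _ ha, tw_apply, hstab p, hιinv _ ha]
    exact zmod2_add_self _
  obtain ⟨L, hL1, hL2⟩ := exists_lift_sub τ hτ hperf hT A₀ hA₀ hcen
  -- the definition of the extension
  have hex : ∀ e : E, π e • ω₀ = ω₀ → ∃ n : E, π n = 1 ∧
      ∃ h : e * n ∈ S.comap π, (⟨e * n, h⟩ : ↥(S.comap π)) ∈ L := by
    intro e he
    have heS : e ∈ S.comap π := by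
      rw [Subgroup.mem_comap]; exact mem_stabilizer_iff.mpr he
    obtain ⟨a, ha, hpa⟩ := hL1 ⟨e, heS⟩
    rw [MonoidHom.mem_ker, hτ1] at ha
    exact ⟨a, ha, (⟨e, heS⟩ * a : ↥(S.comap π)).2, hpa⟩
  classical
  let χ : E → ZMod 2 := fun e =>
    if he : π e • ω₀ = ω₀ then ι (Classical.choose (hex e he)) ω₀ else 0
  -- the value does not depend on the choice
  have hχ : ∀ (e : E) (n : E), π n = 1 → ∀ h : e * n ∈ S.comap π,
      (⟨e * n, h⟩ : ↥(S.comap π)) ∈ L → χ e = ι n ω₀ := by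
    intro e n hn h hL
    have he : π e • ω₀ = ω₀ := by
      have h1 : π (e * n) ∈ S := h
      rw [map_mul, hn, mul_one] at h1
      exact mem_stabilizer_iff.mp h1
    have hχe : χ e = ι (Classical.choose (hex e he)) ω₀ := dif_pos he
    rw [hχe]
    obtain ⟨hn', h', hL'⟩ := Classical.choose_spec (hex e he)
    set n' := Classical.choose (hex e he) with hn'def
    -- the quotient of the two elements lies in the kernel and in the complement
    have hq : ((⟨e * n, h⟩ : ↥(S.comap π))⁻¹ * ⟨e * n', h'⟩ : ↥(S.comap π)) ∈ L :=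
      L.mul_mem (L.inv_mem hL) hL'
    have hq1 : τ ((⟨e * n, h⟩ : ↥(S.comap π))⁻¹ * ⟨e * n', h'⟩) = 1 := by
      rw [hτ1]
      show π ((e * n)⁻¹ * (e * n')) = 1
      rw [map_mul, map_inv, map_mul, map_mul, hn, hn', mul_one, inv_mul_cancel]
    have hq2 := (hL2 _ hq hq1).2
    have e1 : (((⟨e * n, h⟩ : ↥(S.comap π))⁻¹ * ⟨e * n', h'⟩ : ↥(S.comap π)) : E) = n⁻¹ * n' := by
      show (e * n)⁻¹ * (e * n') = n⁻¹ * n'
      group
    rw [e1, add _ _ (by rw [map_inv, hn, inv_one]) hn', Pi.add_apply, hιinv _ hn] at hq2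
    have h2 := zmod2_add_self (ι n ω₀)
    linear_combination hq2 - h2
  refine ⟨χ, ?_, ?_⟩
  · intro e e' he he'
    obtain ⟨n, hn, h, hL⟩ := hex e he
    obtain ⟨n', hn', h', hL'⟩ := hex e' he'
    rw [hχ e n hn h hL, hχ e' n' hn' h' hL']
    have hc : π (e'⁻¹ * n * e') = 1 := by
      rw [map_mul, map_mul, hn, mul_one, map_inv, inv_mul_cancel]
    have hprod : e * e' * (e'⁻¹ * n * e' * n') = (e * n) * (e' * n') := by group
    have hmem : e * e' * (e'⁻¹ * n * e' * n') ∈ S.comap π := by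
      rw [hprod]; exact (S.comap π).mul_mem h h'
    have hLp : (⟨e * e' * (e'⁻¹ * n * e' * n'), hmem⟩ : ↥(S.comap π)) ∈ L := by
      have : (⟨e * e' * (e'⁻¹ * n * e' * n'), hmem⟩ : ↥(S.comap π)) = ⟨e * n, h⟩ * ⟨e' * n', h'⟩ :=
        Subtype.ext hprod
      rw [this]
      exact L.mul_mem hL hL'
    rw [hχ (e * e') (e'⁻¹ * n * e' * n') (by rw [map_mul, hc, hn', one_mul]) hmem hLp]
    rw [add _ _ hc hn', Pi.add_apply]
    congr 1
    have h3 := equiv e'⁻¹ n hn
    rw [inv_inv] at h3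
    rw [h3, tw_apply, map_inv, inv_inv, he']
  · intro n hn
    have hmem : n * n⁻¹ ∈ S.comap π := by
      rw [mul_inv_cancel]; exact (S.comap π).one_mem
    have hL : (⟨n * n⁻¹, hmem⟩ : ↥(S.comap π)) ∈ L := by
      have : (⟨n * n⁻¹, hmem⟩ : ↥(S.comap π)) = 1 := Subtype.ext (mul_inv_cancel n)
      rw [this]; exact L.one_mem
    rw [hχ n n⁻¹ (by rw [map_inv, hn, inv_one]) hmem hL, hιinv _ hn]

end

end Cfsg.Agent.Lib.Helper1.M23Ext
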