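import Cfsg.Agent.Lib.Helper1.M23Ext.WP

set_option autoImplicit false

/-! # Subgroups of the wreath product meeting the base group in a fixed subgroup

Normalization of such a subgroup by conjugation with elements of the base group, and the
constraints coming from relators. -/

namespace Cfsg.Agent.Lib.Helper1.M23Ext

universe u v

section

variable {G : Type u} [Group G] {Ω : Type v} [MulAction G Ω]

/-- the conjugate of a subgroup by an element of the base group -/
def conjX (u : Ω → ZMod 2) (X : Subgroup (WP G Ω)) : Subgroup (WP G Ω) :=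
  X.comap (MulAut.conj (WP.base u : WP G Ω)).toMonoidHom

theorem mem_conjX (u : Ω → ZMod 2) (X : Subgroup (WP G Ω)) (a : WP G Ω) :
    a ∈ conjX u X ↔ (⟨u + a.f + tw a.g u, a.g⟩ : WP G Ω) ∈ X := by
  unfold conjX
  rw [Subgroup.mem_comap]
  show (WP.base u * a * (WP.base u)⁻¹ : WP G Ω) ∈ X ↔ _
  rw [WP.base_conj]

/-- the conjugate is isomorphic to the subgroup -/
noncomputable def conjXEquiv (u : Ω → ZMod 2) (X : Subgroup (WP G Ω)) : ↥(conjX u X) ≃* ↥X :=
  MulEquiv.ofBijective
    (((MulAut.conj (WP.base u : WP G Ω)).toMonoidHom.comp (conjX u X).subtype).codRestrict X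
      (fun a => a.2))
    (by
      constructor
      · intro a b h
        have h1 := congrArg Subtype.val h
        apply Subtype.ext
        exact (MulAut.conj (WP.base u : WP G Ω)).injective h1
      · intro b
        refine ⟨⟨(MulAut.conj (WP.base u : WP G Ω)).symm b.1, ?_⟩, ?_⟩
        · unfold conjX
          rw [Subgroup.mem_comap]
          show (MulAut.conj (WP.base u : WP G Ω)) ((MulAut.conj (WP.base u : WP G Ω)).symm b.1) ∈ X
          rw [MulEquiv.apply_symm_apply]
          exact b.2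
        · apply Subtype.ext
          show (MulAut.conj (WP.base u : WP G Ω)) ((MulAut.conj (WP.base u : WP G Ω)).symm b.1) = b.1
          rw [MulEquiv.apply_symm_apply])

/-- a subgroup meeting the base group in the image of `V` and projecting onto the group -/
structure IsExtSub (X : Subgroup (WP G Ω)) (V : AddSubgroup (Ω → ZMod 2)) : Prop where
  ker_mem : ∀ a ∈ X, a.g = 1 → a.f ∈ V
  base_mem : ∀ v ∈ V, (WP.base v : WP G Ω) ∈ X
  surj : ∀ g : G, ∃ a ∈ X, a.g = g

variable {X : Subgroup (WP G Ω)} {V : AddSubgroup (Ω → ZMod 2)}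

theorem IsExtSub.conj (H : IsExtSub X V) (u : Ω → ZMod 2) : IsExtSub (conjX u X) V where
  ker_mem := by
    intro a ha hg
    rw [mem_conjX] at ha
    have h1 := H.ker_mem _ ha hg
    simp only [hg, tw_one] at h1
    have : u + a.f + u = a.f := by
      funext ω
      simp only [Pi.add_apply]
      rw [add_right_comm, zmod2_add_self, zero_add]
    rw [this] at h1
    exact h1
  base_mem := by
    intro v hv
    rw [mem_conjX]
    simp only [WP.base_f, WP.base_g, tw_one]
    have : u + v + u = v := by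
      funext ω
      simp only [Pi.add_apply]
      rw [add_right_comm, zmod2_add_self, zero_add]
    rw [this]
    exact H.base_mem v hv
  surj := by
    intro g
    obtain ⟨a, ha, hg⟩ := H.surj g
    refine ⟨⟨u + a.f + tw a.g u, a.g⟩, ?_, hg⟩
    rw [mem_conjX]
    have : u + (u + a.f + tw a.g u) + tw a.g u = a.f := by
      funext ω
      simp only [Pi.add_apply]
      have h1 := zmod2_add_self (u ω)
      have h2 := zmod2_add_self (tw a.g u ω)
      linear_combination h1 + h2
    show (⟨u + (u + a.f + tw a.g u) + tw a.g u, a.g⟩ : WP G Ω) ∈ X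
    rw [this]
    exact ha

theorem conjX_conjX (u u' : Ω → ZMod 2) (X : Subgroup (WP G Ω)) :
    conjX u' (conjX u X) = conjX (u + u') X := by
  ext a
  rw [mem_conjX, mem_conjX, mem_conjX]
  have : u + (u' + a.f + tw a.g u') + tw a.g u = u + u' + a.f + tw a.g (u + u') := by
    rw [tw_add]; abel
  show (⟨u + (u' + a.f + tw a.g u') + tw a.g u, a.g⟩ : WP G Ω) ∈ X ↔ _
  rw [this]

/-- left multiplication by an element of the base group -/
theorem IsExtSub.add_mem (H : IsExtSub X V) {a : WP G Ω} (ha : a ∈ X) {v : Ω → ZMod 2}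
    (hv : v ∈ V) : (⟨v + a.f, a.g⟩ : WP G Ω) ∈ X := by
  have h := X.mul_mem (H.base_mem v hv) ha
  have : (WP.base v * a : WP G Ω) = ⟨v + a.f, a.g⟩ := by
    apply WP.ext
    · simp only [WP.mul_f, WP.base_f, WP.base_g, tw_one]
    · simp only [WP.mul_g, WP.base_g, one_mul]
  rw [this] at h
  exact h

/-- the sum of the translates of a function under the first powers of an element -/
def trSum (x : G) (f : Ω → ZMod 2) (k : ℕ) : Ω → ZMod 2 := ∑ i ∈ Finset.range k, tw (x ^ i) f

theorem pow_eq (x : G) (f : Ω → ZMod 2) (k : ℕ) :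
    (⟨f, x⟩ : WP G Ω) ^ k = ⟨trSum x f k, x ^ k⟩ := by
  induction k with
  | zero =>
    apply WP.ext
    · simp [trSum, WP.one_f]
    · simp [WP.one_g]
  | succ k ih =>
    rw [pow_succ, ih]
    apply WP.ext
    · simp only [WP.mul_f, trSum, Finset.sum_range_succ]
    · simp only [WP.mul_g, pow_succ]

/-- the sum of the translates under the odd powers -/
def oddSum (x : G) (f : Ω → ZMod 2) (h : ℕ) : Ω → ZMod 2 :=
  ∑ i ∈ Finset.range h, tw (x ^ (2 * i + 1)) f

theorem oddSum_add (x : G) (f : Ω → ZMod 2) (h : ℕ) :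
    oddSum x f h + tw x (oddSum x f h) + f = trSum x f (2 * h + 1) := by
  induction h with
  | zero =>
    simp [oddSum, trSum, tw_one, tw_zero]
  | succ h ih =>
    have e1 : oddSum x f (h + 1) = oddSum x f h + tw (x ^ (2 * h + 1)) f := by
      unfold oddSum; rw [Finset.sum_range_succ]
    have e2 : trSum x f (2 * (h + 1) + 1) =
        trSum x f (2 * h + 1) + tw (x ^ (2 * h + 1)) f + tw (x ^ (2 * h + 2)) f := by
      unfold trSum
      rw [show 2 * (h + 1) + 1 = (2 * h + 1) + 1 + 1 by ring, Finset.sum_range_succ,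
        Finset.sum_range_succ]
    rw [e1, e2, ← ih, tw_add, ← tw_mul, ← pow_succ']
    abel

/-- an element of odd order can be conjugated into the section -/
theorem IsExtSub.exists_conj_sec (H : IsExtSub X V) (x : G) (m : ℕ) (hm : Odd m) (hx : x ^ m = 1) :
    ∃ u : Ω → ZMod 2, (WP.sec x : WP G Ω) ∈ conjX u X := by
  obtain ⟨a, ha, hg⟩ := H.surj x
  obtain ⟨h, rfl⟩ := hm
  have h1 : (⟨a.f, x⟩ : WP G Ω) ∈ X := by
    have : (⟨a.f, x⟩ : WP G Ω) = a := by apply WP.ext <;> simp [hg]
    rw [this]; exact ha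
  have h2 := X.pow_mem h1 (2 * h + 1)
  rw [pow_eq, hx] at h2
  have h3 : trSum x a.f (2 * h + 1) ∈ V := H.ker_mem _ h2 rfl
  refine ⟨oddSum x a.f h, ?_⟩
  rw [mem_conjX]
  simp only [WP.sec_f, WP.sec_g, add_zero]
  have h4 := H.add_mem h1 h3
  have h5 : trSum x a.f (2 * h + 1) + a.f = oddSum x a.f h + tw x (oddSum x a.f h) := by
    rw [← oddSum_add]
    funext ω
    simp only [Pi.add_apply]
    rw [add_assoc, zmod2_add_self, add_zero]
  rw [h5] at h4
  exact h4

/-- generation -/
theorem IsExtSub.eq_closure (H : IsExtSub X V) (S : Set (WP G Ω)) (hS : S ⊆ X)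
    (hgen : Subgroup.closure (WP.proj '' S) = (⊤ : Subgroup G)) :
    X = Subgroup.closure (S ∪ (WP.base '' (V : Set (Ω → ZMod 2)))) := by
  apply le_antisymm
  · intro a ha
    set Y := Subgroup.closure (S ∪ (WP.base '' (V : Set (Ω → ZMod 2)))) with hY
    have h1 : ∀ g : G, g ∈ Subgroup.closure (WP.proj '' S) → ∃ y ∈ Y, y.g = g := by
      intro g hg
      induction hg using Subgroup.closure_induction with
      | mem g hg =>
        obtain ⟨s, hs, rfl⟩ := hg
        exact ⟨s, Subgroup.subset_closure (Or.inl hs), rfl⟩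
      | one => exact ⟨1, Y.one_mem, rfl⟩
      | mul g g' _ _ ih ih' =>
        obtain ⟨y, hy, rfl⟩ := ih
        obtain ⟨y', hy', rfl⟩ := ih'
        exact ⟨y * y', Y.mul_mem hy hy', rfl⟩
      | inv g _ ih =>
        obtain ⟨y, hy, rfl⟩ := ih
        exact ⟨y⁻¹, Y.inv_mem hy, rfl⟩
    obtain ⟨y, hy, hyg⟩ := h1 a.g (by rw [hgen]; exact Subgroup.mem_top _)
    have hYX : Y ≤ X := by
      rw [hY, Subgroup.closure_le]
      rintro s (hs | ⟨v, hv, rfl⟩)
      · exact hS hs
      · exact H.base_mem v hv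
    have h2 : y⁻¹ * a ∈ X := X.mul_mem (X.inv_mem (hYX hy)) ha
    have h3 : (y⁻¹ * a).g = 1 := by
      simp only [WP.mul_g, WP.inv_g, hyg, inv_mul_cancel]
    have h4 := H.ker_mem _ h2 h3
    have h5 : y⁻¹ * a = WP.base (y⁻¹ * a).f := WP.eq_base_of_g_eq_one _ h3
    have h6 : y⁻¹ * a ∈ Y := by
      rw [h5]
      exact Subgroup.subset_closure (Or.inr ⟨_, h4, rfl⟩)
    have : a = y * (y⁻¹ * a) := by group
    rw [this]
    exact Y.mul_mem hy h6
  · rw [Subgroup.closure_le]
    rintro s (hs | ⟨v, hv, rfl⟩)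
    · exact hS hs
    · exact H.base_mem v hv

end

end Cfsg.Agent.Lib.Helper1.M23Ext
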