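import Cfsg.Agent.Lib.Helper1.M23Ext.LAM
import Cfsg.Agent.Lib.Helper1.M23Ext.CHI

set_option autoImplicit false

/-! # Embedding the extensions by the quotient of the cocode into the wreath product -/

namespace Cfsg.Agent.Lib.Helper1.M23Ext

open Cfsg Cfsg.Agent.Lib.Helper1 Cfsg.Agent.Lib.Helper1.M23M
open Cfsg.Agent.Lib.Helper5.M23X (W)

open scoped Pointwise

universe u

/-- the embedding of an extension of the Mathieu group of degree 23 by the quotient of the words
on the 24 points by the code and the unit vector of the extra point -/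
theorem exists_rho {E : Type u} [Group E] [Finite E] (N : Subgroup E) [hN : N.Normal]
    (φ : E ⧸ N ≃* ↥Spor.M23) (θ : W →+ Additive ↥N) (hsurj : Function.Surjective θ)
    (hker : ∀ w : W, θ w = 0 ↔ (w ∈ golayCode ∨ w + Pi.single none 1 ∈ golayCode))
    (hθ : ∀ (g : E) (w : W),
      ((θ (w ∘ ⇑(((φ (QuotientGroup.mk g) : ↥Spor.M23) : Equiv.Perm GolayPt)⁻¹))).toMul : E)
        = g * ((θ w).toMul : E) * g⁻¹) :
    ∃ ρ : E →* WP ↥Spor.M23 Om, Function.Injective ρ ∧ IsExtSub ρ.range (Vsub IOm) ∧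
      (∀ e : E, (ρ e).g = 1 ↔ e ∈ N) := by
  classical
  let π : E →* ↥Spor.M23 := φ.toMonoidHom.comp (QuotientGroup.mk' N)
  have hπ : ∀ e : E, π e = φ (QuotientGroup.mk e) := fun e => rfl
  have hπ1 : ∀ e : E, π e = 1 ↔ e ∈ N := by
    intro e
    rw [hπ, MulEquiv.map_eq_one_iff, QuotientGroup.eq_one_iff]
  let ι : E → Om → ZMod 2 := fun e =>
    if h : e ∈ N then Lam (Function.surjInv hsurj (Additive.ofMul ⟨e, h⟩)) else 0
  have hι : ∀ (n : E) (h : n ∈ N) (w : W), θ w = Additive.ofMul ⟨n, h⟩ → ι n = Lam w := by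
    intro n h w hw
    have h1 : ι n = Lam (Function.surjInv hsurj (Additive.ofMul ⟨n, h⟩)) := dif_pos h
    rw [h1]
    have h2 : θ (Function.surjInv hsurj (Additive.ofMul ⟨n, h⟩)) = Additive.ofMul ⟨n, h⟩ :=
      Function.surjInv_eq hsurj _
    have h3 : θ (w - Function.surjInv hsurj (Additive.ofMul ⟨n, h⟩)) = 0 := by
      rw [map_sub, hw, h2, sub_self]
    have h4 := (Lam_eq_zero_iff _).mpr ((hker _).mp h3)
    rw [map_sub, sub_eq_zero] at h4
    exact h4.symm
  have hex : ∀ (n : E) (h : n ∈ N), ∃ w : W, θ w = Additive.ofMul ⟨n, h⟩ := fun n h => hsurj _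
  have surj : Function.Surjective π := by
    intro g
    obtain ⟨q, rfl⟩ := φ.surjective g
    obtain ⟨e, rfl⟩ := QuotientGroup.mk_surjective q
    exact ⟨e, rfl⟩
  have add : ∀ n n' : E, π n = 1 → π n' = 1 → ι (n * n') = ι n + ι n' := by
    intro n n' hn hn'
    rw [hπ1] at hn hn'
    obtain ⟨w, hw⟩ := hex n hn
    obtain ⟨w', hw'⟩ := hex n' hn'
    have h1 : θ (w + w') = Additive.ofMul ⟨n * n', N.mul_mem hn hn'⟩ := by
      rw [map_add, hw, hw']
      rfl
    rw [hι _ _ _ h1, hι _ _ _ hw, hι _ _ _ hw', map_add]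
  have equiv : ∀ (e n : E), π n = 1 → ι (e * n * e⁻¹) = tw (π e) (ι n) := by
    intro e n hn
    rw [hπ1] at hn
    obtain ⟨w, hw⟩ := hex n hn
    have h1 := hθ e w
    rw [hw] at h1
    have h2 : θ (w ∘ ⇑(((φ (QuotientGroup.mk e) : ↥Spor.M23) : Equiv.Perm GolayPt)⁻¹)) =
        Additive.ofMul ⟨e * n * e⁻¹, hN.conj_mem n hn e⟩ := by
      apply Additive.toMul.injective
      apply Subtype.ext
      exact h1
    rw [hι _ _ _ h2, hι _ _ _ hw, hπ]
    exact Lam_comp _ w
  obtain ⟨χ, hχ1, hχ2⟩ := exists_chi π ι (om 0) surj add equiv stab_om_perfect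
    stab_om_trivStems.{u}
  have H : SEHyp π ι (om 0) χ :=
    { surj := surj
      trans := om_trans
      add := add
      inj := by
        intro n hn h0
        rw [hπ1] at hn
        obtain ⟨w, hw⟩ := hex n hn
        rw [hι _ _ _ hw] at h0
        have h1 := (hker w).mpr ((Lam_eq_zero_iff w).mp h0)
        rw [hw] at h1
        have h2 : (⟨n, hn⟩ : ↥N) = 1 := Additive.ofMul.injective h1
        exact congrArg Subtype.val h2
      equiv := equiv
      chi_mul := hχ1
      chi_ker := hχ2 }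
  refine ⟨H.rho, H.rho_injective, ?_, ?_⟩
  · refine ⟨?_, ?_, ?_⟩
    · rintro _ ⟨e, rfl⟩ hg
      rw [H.rho_g] at hg
      rw [H.rho_ker e hg, WP.base_f]
      have hn := (hπ1 e).mp hg
      obtain ⟨w, hw⟩ := hex e hn
      rw [hι _ _ _ hw, ← Lam_range]
      exact ⟨w, rfl⟩
    · intro v hv
      rw [← Lam_range] at hv
      obtain ⟨w, rfl⟩ := hv
      have hn : ((θ w).toMul : E) ∈ N := (θ w).toMul.2
      refine ⟨((θ w).toMul : E), ?_⟩
      have h5 : ι ((θ w).toMul : E) = Lam w := hι _ hn w rfl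
      rw [H.rho_ker _ ((hπ1 _).mpr hn), h5]
    · intro g
      obtain ⟨e, rfl⟩ := surj g
      exact ⟨H.rho e, ⟨e, rfl⟩, rfl⟩
  · intro e
    rw [H.rho_g]
    exact hπ1 e

end Cfsg.Agent.Lib.Helper1.M23Ext
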