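import Cfsg.Agent.Lib.Helper1.M23Ext.LAM

set_option autoImplicit false

/-! # Extensions of the Mathieu group of degree 23 by the words of the code vanishing at the extra
point: the projection and the words of the elements of the kernel -/

namespace Cfsg.Agent.Lib.Helper1.M23Ext

open Cfsg Cfsg.Agent.Lib.Helper1
open Cfsg.Agent.Lib.Helper5.M23X (W)

universe u

section

variable {E : Type u} [Group E] (N : Subgroup E) [hN : N.Normal] (φ : E ⧸ N ≃* ↥Spor.M23)
  (ψ : Additive ↥N →+ W)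

/-- the projection onto the Mathieu group -/
def piE : E →* ↥Spor.M23 := φ.toMonoidHom.comp (QuotientGroup.mk' N)

theorem piE_apply (e : E) : piE N φ e = φ (QuotientGroup.mk e) := rfl

theorem piE_eq_one_iff (e : E) : piE N φ e = 1 ↔ e ∈ N := by
  rw [piE_apply, MulEquiv.map_eq_one_iff, QuotientGroup.eq_one_iff]

theorem piE_surjective : Function.Surjective (piE N φ) := by
  intro g
  obtain ⟨q, rfl⟩ := φ.surjective g
  obtain ⟨e, rfl⟩ := QuotientGroup.mk_surjective q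
  exact ⟨e, rfl⟩

open Classical in
/-- the word of an element of the kernel -/
noncomputable def psiE (e : E) : W := if h : e ∈ N then ψ (Additive.ofMul ⟨e, h⟩) else 0

theorem psiE_of_mem {e : E} (h : e ∈ N) : psiE N ψ e = ψ (Additive.ofMul ⟨e, h⟩) := by
  unfold psiE
  rw [dif_pos h]

theorem psiE_mul {a b : E} (ha : a ∈ N) (hb : b ∈ N) :
    psiE N ψ (a * b) = psiE N ψ a + psiE N ψ b := by
  rw [psiE_of_mem N ψ ha, psiE_of_mem N ψ hb, psiE_of_mem N ψ (N.mul_mem ha hb), ← map_add]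
  rfl

theorem psiE_one : psiE N ψ 1 = 0 := by
  rw [psiE_of_mem N ψ N.one_mem]
  exact map_zero ψ

theorem W_neg (w : W) : -w = w := by
  funext q
  exact ZMod.neg_eq_self_mod_two _

theorem W_add_self (w : W) : w + w = 0 := by
  funext q
  exact zmod2_add_self _

theorem psiE_inv {a : E} (ha : a ∈ N) : psiE N ψ a⁻¹ = psiE N ψ a := by
  have h := psiE_mul N ψ ha (N.inv_mem ha)
  rw [mul_inv_cancel, psiE_one] at h
  have h2 : psiE N ψ a⁻¹ = -psiE N ψ a := by
    rw [eq_neg_iff_add_eq_zero, add_comm]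
    exact h.symm
  rw [h2, W_neg]

variable (hinj : Function.Injective ψ)
  (hrange : ∀ w : W, w ∈ Set.range ψ ↔ (w ∈ golayCode ∧ w none = 0))
  (hψ : ∀ (g : E) (n : ↥N),
    ψ (Additive.ofMul ⟨g * n * g⁻¹, hN.conj_mem n n.2 g⟩)
      = ψ (Additive.ofMul n) ∘ ⇑(((φ (QuotientGroup.mk g) : ↥Spor.M23) : Equiv.Perm GolayPt)⁻¹))

include hψ in
theorem psiE_conj (g : E) {a : E} (ha : a ∈ N) :
    psiE N ψ (g * a * g⁻¹) = psiE N ψ a ∘ ⇑(((piE N φ g : ↥Spor.M23) : Equiv.Perm GolayPt)⁻¹) := by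
  rw [psiE_of_mem N ψ ha, psiE_of_mem N ψ (hN.conj_mem a ha g)]
  exact hψ g ⟨a, ha⟩

include hψ in
theorem psiE_conj_apply (g : E) {a : E} (ha : a ∈ N) (q : GolayPt) :
    psiE N ψ (g * a * g⁻¹) (((piE N φ g : ↥Spor.M23) : Equiv.Perm GolayPt) q) = psiE N ψ a q := by
  rw [psiE_conj N φ ψ hψ g ha]
  simp only [Function.comp, Equiv.Perm.coe_inv, Equiv.symm_apply_apply]

include hinj in
theorem psiE_eq_zero {a : E} (ha : a ∈ N) (h : psiE N ψ a = 0) : a = 1 := by
  rw [psiE_of_mem N ψ ha] at h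
  have h1 : ψ (Additive.ofMul ⟨a, ha⟩) = ψ 0 := by rw [h, map_zero]
  have h2 := hinj h1
  have h3 : (⟨a, ha⟩ : ↥N) = 1 := Additive.ofMul.injective h2
  exact congrArg Subtype.val h3

include hrange in
theorem psiE_mem {a : E} (ha : a ∈ N) : psiE N ψ a ∈ golayCode ∧ psiE N ψ a none = 0 := by
  rw [psiE_of_mem N ψ ha]
  exact (hrange _).mp ⟨_, rfl⟩

include hrange in
theorem exists_psiE (w : W) (hw : w ∈ golayCode) (h0 : w none = 0) :
    ∃ a : E, a ∈ N ∧ psiE N ψ a = w := by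
  obtain ⟨n, hn⟩ := (hrange w).mpr ⟨hw, h0⟩
  refine ⟨(Additive.toMul n : ↥N), (Additive.toMul n : ↥N).2, ?_⟩
  rw [psiE_of_mem N ψ (Additive.toMul n : ↥N).2]
  exact hn

end

end Cfsg.Agent.Lib.Helper1.M23Ext
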