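import Cfsg.Agent.Lib.Helper1.M23Ext.CERT2

set_option autoImplicit false
set_option maxRecDepth 100000

/-! # The generators of the Mathieu group of degree 23, their relators and the classification of
the extension subgroups over the 1288 dodecads -/

namespace Cfsg.Agent.Lib.Helper1.M23Ext

open Cfsg Cfsg.Agent.Lib.Helper1 Cfsg.Agent.Lib.Helper1.M23M Cfsg.Agent.Lib.Helper1.MatCode
open Cfsg.Agent.Lib.Helper1.M23O (gp gh gv)
open Cfsg.Agent.Lib.Helper1.PermCode

open scoped Pointwise

/-- the indexing of the dodecads -/
noncomputable def IOm : IdxData Om 1288 where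
  om := om
  idx := idx
  idx_lt := idx_lt
  om_idx := om_idx
  idx_om := idx_om

theorem gp_smul (j : ℕ) (hj : j < 1288) : gp • IOm.om j = IOm.om (px j) :=
  gen_smul_om 0 (by norm_num) j hj

theorem gv_smul (j : ℕ) (hj : j < 1288) : gv • IOm.om j = IOm.om (pb j) :=
  gen_smul_om 2 (by norm_num) j hj

/-- the letters as indices of generators -/
def letN (l : Bool) : ℕ := if l then 2 else 0

theorem evalG_eq (r : List Bool) : evalG gp gv r = wordProd GG (r.map letN) := by
  induction r with
  | nil => rfl
  | cons l r ih =>
    rw [List.map_cons, wordProd_cons, ← ih]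
    cases l <;> rfl

theorem rel_chk2 : relL.all (fun r => permSysF.ev gens (r.map letN) == permSysF.c1) = true := by
  decide +kernel

theorem relL_eval (r : List Bool) (hr : r ∈ relL) : evalG gp gv r = 1 := by
  have h := rel_chk2
  rw [List.all_eq_true] at h
  have h1 := h r hr
  rw [beq_iff_eq] at h1
  rw [evalG_eq]
  exact wv_one _ h1

/-- a word for the second generator in the other two -/
def hW : List Bool := [true, true, false, true, true, false, false, true, true, false, true, false,
  true, true, true, false, true, true, true, true, false, true, false, false]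

theorem hW_chk : (permSysF.ev gens (hW.map letN) == permSysF.ev gens [1]) = true := by
  decide +kernel

theorem gh_eq : gh = evalG gp gv hW := by
  rw [evalG_eq]
  have h := wv_eq (hW.map letN) [1] (beq_iff_eq.mp hW_chk)
  rw [h]
  rw [wordProd_cons, wordProd_nil, mul_one]
  rfl

theorem evalG_mem (r : List Bool) : evalG gp gv r ∈ Subgroup.closure ({gp, gv} : Set ↥Spor.M23) := by
  induction r with
  | nil => exact Subgroup.one_mem _
  | cons l r ih =>
    apply Subgroup.mul_mem _ _ ih
    cases l
    · exact Subgroup.subset_closure (Or.inl rfl)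
    · exact Subgroup.subset_closure (Or.inr rfl)

theorem gen_pv : Subgroup.closure ({gp, gv} : Set ↥Spor.M23) = ⊤ := by
  rw [eq_top_iff, ← M23O.gen, Subgroup.closure_le]
  intro g hg
  simp only [Set.mem_insert_iff, Set.mem_singleton_iff] at hg
  rcases hg with rfl | rfl | rfl
  · exact Subgroup.subset_closure (Or.inl rfl)
  · rw [gh_eq]; exact evalG_mem _
  · exact Subgroup.subset_closure (Or.inr rfl)

theorem gp_pow : gp ^ 23 = 1 := (hodd 0 (by decide)).2

/-- the classification of the extension subgroups over the dodecads up to conjugacy -/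
theorem classify_Om {X : Subgroup (WP ↥Spor.M23 Om)} (H : IsExtSub X (Vsub IOm)) :
    ∃ u : Om → ZMod 2, conjX u X = Ystd gp gv (Vsub IOm) 0 ∨
      conjX u X = Ystd gp gv (Vsub IOm) (s0 IOm) :=
  H.classify gp gv 23 (by decide) gp_pow gen_pv relL relL_eval (s0 IOm)
    (fun w hw => cert IOm gp gv gp_smul gv_smul w hw)

end Cfsg.Agent.Lib.Helper1.M23Ext
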