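import Cfsg.Agent.Lib.Helper1.M23Ext.GEN
import Cfsg.Agent.Lib.Helper5.M23X.X9

set_option autoImplicit false
set_option maxRecDepth 100000

/-! # The map from the words on the 24 points to the functions on the 1288 dodecads -/

namespace Cfsg.Agent.Lib.Helper1.M23Ext

open Cfsg Cfsg.Agent.Lib.Helper1 Cfsg.Agent.Lib.Helper1.M23M
open Cfsg.Agent.Lib.Helper9.M24 (mset mem_mset natOfPt ptOfNat natOfPt_lt natOfPt_ptOfNat
  ptOfNat_natOfPt natOfPt_eq_gIdx)
open Cfsg.Agent.Lib.Helper5.M23X (W wsum C0 mem_C0 orth_C0_iff exists_idx wsum_mul_add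
  wsum_mul_smul wsum_single_mul wsum_add_mul)

open scoped Pointwise

/-- the indicator function of the complement of a dodecad -/
def cind (ω : Om) : W := fun q => if q ∈ ω.1 then 0 else 1

/-- the sums of the values of a word outside the dodecads -/
def Lam : W →+ (Om → ZMod 2) where
  toFun := fun w ω => wsum (w * cind ω)
  map_zero' := by
    funext ω
    exact Cfsg.Agent.Lib.Helper5.M23X.wsum_zero_mul _
  map_add' := by
    intro w w'
    funext ω
    exact wsum_add_mul w w' _

theorem Lam_apply (w : W) (ω : Om) : Lam w ω = wsum (w * cind ω) := rfl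

/-- the mask of the complement of a dodecad -/
def cm (j : ℕ) : ℕ := DL j ^^^ 16777215

theorem ones_testBit : ∀ i < 24, (16777215 : ℕ).testBit i = true := by decide

theorem cind_om (j : ℕ) (hj : j < 1288) : cind (om j) = ofMask (cm j) := by
  funext q
  have h1 : (q ∈ (om j).1) ↔ (DL j).testBit (gIdx q) = true := by
    rw [om_val j hj]
    unfold pt
    rw [mem_mset, natOfPt_eq_gIdx]
  unfold cind cm
  rw [ofMask_apply, Nat.testBit_xor, ones_testBit _ (gIdx_lt q)]
  by_cases h : (DL j).testBit (gIdx q) = true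
  · rw [if_pos (h1.mpr h), h]
    rfl
  · rw [if_neg (fun h' => h (h1.mp h'))]
    rw [Bool.not_eq_true] at h
    rw [h]
    rfl

theorem cm_chk : (List.range 1288).all
    (fun j => decide (cm j >>> 12 < 2048) && (cw (cm j >>> 12) == cm j)) = true := by
  decide +kernel

theorem cm_mem (j : ℕ) (hj : j < 1288) : ofMask (cm j) ∈ C0 := by
  have h := cm_chk
  rw [List.all_eq_true] at h
  have h1 := h j (List.mem_range.mpr hj)
  rw [Bool.and_eq_true, decide_eq_true_eq, beq_iff_eq] at h1
  rw [← h1.2]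
  exact Cfsg.Agent.Lib.Helper5.M23X.pt_mem h1.1

/-- the basis of the subcode as sums of complements of dodecads -/
def JL : List (List ℕ) := [[0, 4, 5, 10, 13], [2, 5, 9, 10, 13], [0, 1, 4, 7, 10, 12],
  [0, 1, 2, 4, 5, 9, 10, 12, 13], [0, 2, 4, 5, 7, 12], [0, 1, 2, 3, 10, 13], [0, 5, 7, 9, 12],
  [1, 3, 4, 5, 7, 9, 10, 12], [0, 12, 13], [0, 3, 4, 10, 12], [1, 2, 3, 7, 9, 10]]

theorem JL_chk : (List.range 11).all (fun i => ((JL.getD i []).all (fun j => decide (j < 1288))) &&
    (xorL ((JL.getD i []).map cm) == bTab i)) = true := by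
  decide +kernel

theorem ofMask_xorL (L : List ℕ) : ofMask (xorL L) = (L.map ofMask).sum := by
  induction L with
  | nil => simp [xorL, ofMask_zero]
  | cons a l ih => simp only [xorL, ofMask_xor, ih, List.map_cons, List.sum_cons]

/-- the words orthogonal to a given word -/
def orthSub (w : W) : Submodule (ZMod 2) W where
  carrier := {x | wsum (w * x) = 0}
  zero_mem' := by
    show wsum (w * 0) = 0
    rw [mul_zero]
    unfold wsum
    simp
  add_mem' := by
    intro x y hx hy
    show wsum (w * (x + y)) = 0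
    rw [wsum_mul_add, hx, hy, add_zero]
  smul_mem' := by
    intro a x hx
    show wsum (w * (a • x)) = 0
    rw [wsum_mul_smul, hx, mul_zero]

theorem mem_orthSub (w x : W) : x ∈ orthSub w ↔ wsum (w * x) = 0 := Iff.rfl

theorem Lam_eq_zero_iff (w : W) :
    Lam w = 0 ↔ (w ∈ golayCode ∨ w + Pi.single none 1 ∈ golayCode) := by
  rw [← orth_C0_iff]
  constructor
  · intro h x hx
    have hcm : ∀ j, j < 1288 → ofMask (cm j) ∈ orthSub w := by
      intro j hj
      rw [mem_orthSub, ← cind_om j hj, ← Lam_apply, h]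
      rfl
    have hb : ∀ i, i < 11 → ofMask (bTab i) ∈ orthSub w := by
      intro i hi
      have h1 := JL_chk
      rw [List.all_eq_true] at h1
      have h2 := h1 i (List.mem_range.mpr hi)
      rw [Bool.and_eq_true, List.all_eq_true, beq_iff_eq] at h2
      rw [← h2.2, ofMask_xorL, List.map_map]
      apply list_sum_mem
      intro y hy
      rw [List.mem_map] at hy
      obtain ⟨j, hj, rfl⟩ := hy
      exact hcm j (of_decide_eq_true (h2.1 j hj))
    obtain ⟨c, hc, hxc⟩ := exists_idx ⟨x, hx⟩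
    have hxc' : x = ofMask (cw c) := hxc
    have h3 : cw c = xorFold bTab 11 c := by
      show xorFold bTab 11 c ^^^ (if c.testBit 11 then bTab 11 else 0) = xorFold bTab 11 c
      rw [Nat.testBit_lt_two_pow (by omega : c < 2 ^ 11)]
      simp
    have h4 : x ∈ Submodule.span (ZMod 2) ((fun i => ofMask (bTab i)) '' {i | i < 11}) := by
      rw [mem_span_ofMask_iff]
      exact ⟨c, by omega, by rw [hxc', h3]⟩
    have h5 : Submodule.span (ZMod 2) ((fun i => ofMask (bTab i)) '' {i | i < 11}) ≤ orthSub w := by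
      rw [Submodule.span_le]
      rintro _ ⟨i, hi, rfl⟩
      exact hb i hi
    exact h5 h4
  · intro h
    funext ω
    obtain ⟨j, hj, rfl⟩ := om_surj ω
    rw [Lam_apply, cind_om j hj]
    exact h _ (cm_mem j hj)

/-- the compatibility with the actions -/
theorem Lam_comp (g : ↥Spor.M23) (w : W) :
    Lam (w ∘ ⇑((g : Equiv.Perm GolayPt)⁻¹)) = tw g (Lam w) := by
  funext ω
  rw [tw_apply, Lam_apply, Lam_apply]
  unfold wsum
  rw [← Equiv.sum_comp (g : Equiv.Perm GolayPt)]
  apply Finset.sum_congr rfl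
  intro q _
  simp only [Pi.mul_apply, Function.comp, Equiv.Perm.coe_inv, Equiv.symm_apply_apply]
  congr 1
  unfold cind
  have h1 : (q ∈ ((g⁻¹ • ω : Om) : Finset GolayPt)) ↔ ((g : Equiv.Perm GolayPt) q ∈ (ω : Finset GolayPt)) := by
    have h2 : ((g⁻¹ • ω : Om) : Finset GolayPt) = g⁻¹ • (ω : Finset GolayPt) := rfl
    rw [h2, Finset.mem_inv_smul_finset_iff]
    rfl
  by_cases h : (g : Equiv.Perm GolayPt) q ∈ (ω : Finset GolayPt)
  · rw [if_pos h, if_pos (h1.mpr h)]
  · rw [if_neg h, if_neg (fun h' => h (h1.mp h'))]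

theorem chkV : (List.range 24).all (fun q => (List.range 1288).all (fun j =>
    (CD.TgenL.getD q 0).testBit j == !(DL j).testBit q)) = true := by
  decide +kernel

theorem Lam_single (q : GolayPt) :
    Lam (Pi.single q 1) = ofN IOm (CD.TgenL.getD (natOfPt q) 0) := by
  funext ω
  obtain ⟨j, hj, rfl⟩ := om_surj ω
  have h1 : ofN IOm (CD.TgenL.getD (natOfPt q) 0) (om j) =
      if (CD.TgenL.getD (natOfPt q) 0).testBit j then 1 else 0 := ofN_om IOm _ j hj
  rw [Lam_apply, wsum_single_mul, cind_om j hj, ofMask_apply, h1]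
  have h2 := chkV
  rw [List.all_eq_true] at h2
  have h3 := h2 (natOfPt q) (List.mem_range.mpr (natOfPt_lt q))
  rw [List.all_eq_true] at h3
  have h4 := h3 j (List.mem_range.mpr hj)
  rw [beq_iff_eq] at h4
  rw [h4]
  unfold cm
  rw [Nat.testBit_xor, ones_testBit _ (gIdx_lt q), natOfPt_eq_gIdx]
  cases (DL j).testBit (gIdx q) <;> rfl

theorem Lam_range : AddMonoidHom.range Lam = Vsub IOm := by
  apply le_antisymm
  · rintro _ ⟨w, rfl⟩
    have h : w = ∑ q, Pi.single q (w q) := (Finset.univ_sum_single w).symm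
    rw [h, map_sum]
    apply sum_mem
    intro q _
    rcases Cfsg.Agent.Lib.Helper5.M23X.z2_cases (w q) with h0 | h1
    · rw [h0, Pi.single_zero, map_zero]
      exact (Vsub IOm).zero_mem
    · rw [h1, Lam_single]
      exact AddSubgroup.subset_closure ⟨natOfPt q, natOfPt_lt q, rfl⟩
  · unfold Vsub
    rw [AddSubgroup.closure_le]
    rintro _ ⟨q', hq', rfl⟩
    exact ⟨Pi.single (ptOfNat q') 1, by rw [Lam_single, natOfPt_ptOfNat q' hq']⟩

theorem par_spec (j : ℕ) (hj : j < 1288) (h0 : j ≠ 0) :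
    (D.par j).1 < 3 ∧ (D.par j).2 < j ∧ D.pi (D.par j).1 (D.par j).2 = j := by
  have h := chk_struct
  unfold StemSA.SAData.chkStruct at h
  simp only [Bool.and_eq_true] at h
  have h2 := h.1.1.2
  rw [List.all_eq_true] at h2
  have h3 := h2 j (List.mem_range.mpr hj)
  rw [Bool.or_eq_true] at h3
  rcases h3 with h3 | h3
  · exact absurd (beq_iff_eq.mp h3) h0
  · simp only [Bool.and_eq_true, decide_eq_true_eq, beq_iff_eq] at h3
    exact ⟨h3.1.1, h3.1.2, h3.2⟩

theorem om_trans' (j : ℕ) (hj : j < 1288) : ∃ g : ↥Spor.M23, g • om 0 = om j := by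
  induction j using Nat.strong_induction_on with
  | _ j ih =>
    by_cases h0 : j = 0
    · subst h0
      exact ⟨1, one_smul _ _⟩
    · obtain ⟨h1, h2, h3⟩ := par_spec j hj h0
      obtain ⟨g', hg'⟩ := ih _ h2 (by omega)
      refine ⟨GG.getD (D.par j).1 1 * g', ?_⟩
      rw [mul_smul, hg', gen_smul_om _ h1 _ (by omega), h3]

theorem om_trans (ω : Om) : ∃ g : ↥Spor.M23, g • om 0 = ω := by
  obtain ⟨j, hj, rfl⟩ := om_surj ω
  exact om_trans' j hj

theorem stab_eq : MulAction.stabilizer ↥Spor.M23 (om 0) = MulAction.stabilizer ↥Spor.M23 (pt 0) := by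
  ext g
  rw [MulAction.mem_stabilizer_iff, MulAction.mem_stabilizer_iff]
  have h1 : ((g • om 0 : Om) : Finset GolayPt) = g • pt 0 := by
    show g • (om 0 : Finset GolayPt) = g • pt 0
    rw [om_val 0 (by norm_num)]
  constructor
  · intro h
    rw [← h1, h, om_val 0 (by norm_num)]
  · intro h
    apply Subtype.ext
    rw [h1, h, om_val 0 (by norm_num)]

theorem stab_om_perfect : commutator ↥(MulAction.stabilizer ↥Spor.M23 (om 0)) = ⊤ := by
  rw [stab_eq]
  exact stab_perfect

universe u

theorem stab_om_trivStems : Stem.TrivStems.{u} ↥(MulAction.stabilizer ↥Spor.M23 (om 0)) := by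
  rw [stab_eq]
  exact M11M.trivStems_M11.of_equiv stabEquiv.symm

end Cfsg.Agent.Lib.Helper1.M23Ext
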