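import Cfsg.Agent.Lib.Helper1.M23Ext.EXT

set_option autoImplicit false
set_option maxRecDepth 100000

/-! # The action of the Mathieu group of degree 23 on the 23 points -/

namespace Cfsg.Agent.Lib.Helper1.M23Ext

open Cfsg Cfsg.Agent.Lib.Helper1 Cfsg.Agent.Lib.Helper1.M23M
open Cfsg.Agent.Lib.Helper1.M23O (gp gv tP tV chk_P chk_V)
open Cfsg.Agent.Lib.Helper9.M24 (natOfPt ptOfNat tperm tabOK tget tperm_apply)
open Cfsg.Agent.Lib.Helper1.PermCode

theorem smul_def23 (g : ↥Spor.M23) (q : GolayPt) : g • q = (g : Equiv.Perm GolayPt) q := rfl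

/-- the points other than the extra point -/
def sub23 : SubMulAction ↥Spor.M23 GolayPt where
  carrier := {q | q ≠ none}
  smul_mem' := by
    intro g q hq h
    apply hq
    have h1 : (g : Equiv.Perm GolayPt) q = (g : Equiv.Perm GolayPt) none := by
      rw [apply_none g]
      exact h
    exact (g : Equiv.Perm GolayPt).injective h1

/-- the type of the 23 points -/
abbrev Om23 : Type := ↥sub23

/-- the point with a given index -/
def om23 (j : ℕ) : Om23 := ⟨some (j : ZMod 23), Option.some_ne_none _⟩

/-- the index of a point -/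
def idx23 (ω : Om23) : ℕ :=
  match ω.1 with
  | some i => i.val
  | none => 0

/-- the indexing of the 23 points -/
def IOm23 : IdxData Om23 23 where
  om := om23
  idx := idx23
  idx_lt := by
    rintro ⟨q, hq⟩
    cases q with
    | none => exact absurd rfl hq
    | some i => exact ZMod.val_lt i
  om_idx := by
    rintro ⟨q, hq⟩
    cases q with
    | none => exact absurd rfl hq
    | some i =>
      apply Subtype.ext
      show some ((i.val : ℕ) : ZMod 23) = some i
      rw [ZMod.natCast_zmod_val]
  idx_om := by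
    intro j hj
    show ((j : ZMod 23)).val = j
    exact ZMod.val_natCast_of_lt hj

theorem om23_val (j : ℕ) : (om23 j : GolayPt) = some (j : ZMod 23) := rfl

theorem om23_surj (ω : Om23) : ∃ j, j < 23 ∧ om23 j = ω :=
  ⟨idx23 ω, IOm23.idx_lt ω, IOm23.om_idx ω⟩

theorem smul_val23 (g : ↥Spor.M23) (ω : Om23) :
    ((g • ω : Om23) : GolayPt) = (g : Equiv.Perm GolayPt) (ω : GolayPt) := rfl

/-- the action of a permutation given by a table on the 23 points -/
theorem tperm_some {t : List ℕ} (h : tabOK t = true) (j : ℕ) (hj : j < 23)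
    (hlt : tget t j < 23) :
    tperm t (some (j : ZMod 23)) = some ((tget t j : ℕ) : ZMod 23) := by
  rw [tperm_apply h]
  show ptOfNat (tget t (natOfPt (some (j : ZMod 23)))) = _
  have h1 : natOfPt (some (j : ZMod 23)) = j := by
    show ((j : ZMod 23)).val = j
    exact ZMod.val_natCast_of_lt hj
  rw [h1]
  unfold ptOfNat
  rw [if_neg (by omega)]

/-- the table of the first generator on the 23 points -/
def px23 (j : ℕ) : ℕ := tget tP j

/-- the table of the third generator on the 23 points -/
def pb23 (j : ℕ) : ℕ := tget tV j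

theorem px23_lt : ∀ j, j < 23 → px23 j < 23 := by decide

theorem pb23_lt : ∀ j, j < 23 → pb23 j < 23 := by decide

theorem gp_smul23 (j : ℕ) (hj : j < 23) : gp • IOm23.om j = IOm23.om (px23 j) := by
  apply Subtype.ext
  show tperm tP (some (j : ZMod 23)) = some ((px23 j : ℕ) : ZMod 23)
  exact tperm_some (chkTab_sound (chkM23_tab chk_P)).1 j hj (px23_lt j hj)

theorem gv_smul23 (j : ℕ) (hj : j < 23) : gv • IOm23.om j = IOm23.om (pb23 j) := by
  apply Subtype.ext
  show tperm tV (some (j : ZMod 23)) = some ((pb23 j : ℕ) : ZMod 23)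
  exact tperm_some (chkTab_sound (chkM23_tab chk_V)).1 j hj (pb23_lt j hj)

/-- the transitivity on the 23 points -/
theorem om23_trans (ω : Om23) : ∃ g : ↥Spor.M23, g • om23 0 = ω := by
  obtain ⟨j, hj, rfl⟩ := om23_surj ω
  induction j with
  | zero => exact ⟨1, one_smul _ _⟩
  | succ j ih =>
    obtain ⟨g, hg⟩ := ih (by omega)
    refine ⟨gp * g, ?_⟩
    rw [mul_smul, hg]
    have h1 := gp_smul23 j (by omega)
    have h2 : px23 j = j + 1 := by
      have : ∀ j, j < 22 → px23 j = j + 1 := by decide
      exact this j (by omega)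
    rw [h2] at h1
    exact h1

end Cfsg.Agent.Lib.Helper1.M23Ext
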