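import Cfsg.Agent.Lib.Helper1.M23Ext.Q8P
import Cfsg.Agent.Lib.Helper1.Golay3

set_option autoImplicit false
set_option maxRecDepth 100000

/-! # The lifts of the quaternion subgroup to an extension of the Mathieu group of degree 23 by the
words of the code vanishing at the extra point: a coordinate of a word of the kernel vanishes -/

namespace Cfsg.Agent.Lib.Helper1.M23Ext

open Cfsg Cfsg.Agent.Lib.Helper1
open Cfsg.Agent.Lib.Helper5.M23X (W)
open Cfsg.Agent.Lib.Helper9.M24 (tget)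

universe u

section words

variable {G : Type*} [Group G]

/-- the first word of the kernel -/
def w1 (X Y : G) : G := X * X * Y⁻¹ * Y⁻¹
/-- the second word of the kernel -/
def w2 (X Y : G) : G := X * Y * X⁻¹ * Y
/-- the defect of the conjugate of the first generator -/
def wa (X Y T : G) : G := (X * Y)⁻¹ * T⁻¹ * X * T
/-- the defect of the conjugate of the second generator -/
def wb (X Y T : G) : G := X⁻¹ * T⁻¹ * Y * T
/-- the defect of the conjugate of the square -/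
def wc (X C : G) : G := (X * X)⁻¹ * C * (X * X) * C⁻¹

theorem idA (X Y : G) : X * X * X * X =
    ((X * X) * w1 X Y * (X * X)⁻¹) * ((X * w1 X Y * X⁻¹) * (w2 X Y * (Y⁻¹ * w2 X Y * Y))) := by
  unfold w1 w2; group

theorem idB (X Y : G) : X * X * X * X =
    ((X * X * X * X) * w1 X Y * (X * X * X * X)⁻¹) * (((X * X * X) * w2 X Y * (X * X * X)⁻¹) *
      ((X * w1 X Y * X⁻¹) * (w2 X Y * ((Y⁻¹ * w1 X Y * Y) * (w1 X Y)⁻¹)))) := by
  unfold w1 w2
  have h : X * X * X * X = X ^ 4 := by rw [pow_succ, pow_succ, pow_succ, pow_one]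
  rw [h]; group

theorem idS (X Y T : G) : T⁻¹ * w2 X Y * T =
    ((X * Y) * wa X Y T * (X * Y)⁻¹) * (((X * Y * X) * wb X Y T * (X * Y * X)⁻¹) *
      (((X * Y * X) * (wa X Y T)⁻¹ * (X * Y * X)⁻¹) *
        (w2 X Y * ((Y⁻¹ * w1 X Y * Y) * wb X Y T)))) := by
  unfold w1 w2 wa wb; group

theorem idC (X C : G) : C * (X * X * X * X) * C⁻¹ =
    (X * X * X * X) * (((X * X)⁻¹ * wc X C * (X * X)) * wc X C) := by
  unfold wc; group

theorem w1_eq_one (x y : G) (h : x * x = y * y) : w1 x y = 1 := by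
  unfold w1; rw [h]; group

theorem w2_eq_one (x y : G) (h : y * (x * y) = x) : w2 x y = 1 := by
  unfold w2
  have e : x⁻¹ = (y * (x * y))⁻¹ := by rw [h]
  rw [e]; group

theorem wa_eq_one (x y g : G) (h : x * g = g * (x * y)) : wa x y g = 1 := by
  unfold wa
  have e : (x * y)⁻¹ * g⁻¹ * x * g = (x * y)⁻¹ * g⁻¹ * (x * g) := by group
  rw [e, h]; group

theorem wb_eq_one (x y g : G) (h : y * g = g * x) : wb x y g = 1 := by
  unfold wb
  have e : x⁻¹ * g⁻¹ * y * g = x⁻¹ * g⁻¹ * (y * g) := by group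
  rw [e, h]; group

theorem wc_eq_one (x c : G) (h : c * (x * x) = x * (x * c)) : wc x c = 1 := by
  unfold wc
  have e : (x * x)⁻¹ * c * (x * x) * c⁻¹ = (x * x)⁻¹ * (c * (x * x)) * c⁻¹ := by group
  rw [e, h]; group

end words


section heptads

/-- the point with a given index -/
abbrev P (j : ℕ) : GolayPt := some (j : ZMod 23)

theorem sum_ofMask_mul (m : ℕ) (w : W) :
    ∑ i, ofMask m i * w i =
      (((List.range 24).filter (fun j => m.testBit j)).map (fun j => w (gUnidx j))).sum := by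
  have h1 : ∑ i, ofMask m i * w i =
      ∑ j ∈ Finset.range 24, (if m.testBit j = true then w (gUnidx j) else 0) := by
    apply Finset.sum_nbij' (fun i => gIdx i) (fun j => gUnidx j)
    · intro a _; exact Finset.mem_range.mpr (gIdx_lt a)
    · intro a _; exact Finset.mem_univ _
    · intro a _; exact gUnidx_gIdx a
    · intro a ha; exact gIdx_gUnidx a (Finset.mem_range.mp ha)
    · intro a _
      rw [ofMask_apply, gUnidx_gIdx]
      split_ifs <;> simp
  rw [h1, ← Finset.sum_filter, ← List.toFinset_range, ← List.toFinset_filter,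
    List.sum_toFinset _ ((List.nodup_range).filter _)]

theorem gUnidx_P (j : ℕ) (hj : j < 23) : gUnidx j = P j := if_pos hj

theorem mem_mask1 : ofMask 8398155 ∈ golayCode := by
  rw [mem_golayCode_iff]
  exact ⟨2050, by norm_num, by rw [show cw 2050 = 8398155 by decide]⟩

theorem mem_mask2 : ofMask 13303882 ∈ golayCode := by
  rw [mem_golayCode_iff]
  exact ⟨3248, by norm_num, by rw [show cw 3248 = 13303882 by decide]⟩

theorem hept1 (r : W) (hr : r ∈ golayCode) (h0 : r none = 0) :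
    r (P 0) + r (P 1) + r (P 3) + r (P 6) + r (P 8) + r (P 10) + r (P 13) = 0 := by
  have h := golay_self_orth _ r mem_mask1 hr
  rw [sum_ofMask_mul, show (List.range 24).filter (fun j => (8398155 : ℕ).testBit j) =
    [0, 1, 3, 6, 8, 10, 13, 23] by decide] at h
  simp only [List.map_cons, List.map_nil, List.sum_cons, List.sum_nil] at h
  have e : gUnidx 23 = none := rfl
  rw [e, h0, gUnidx_P 0 (by norm_num), gUnidx_P 1 (by norm_num), gUnidx_P 3 (by norm_num),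
    gUnidx_P 6 (by norm_num), gUnidx_P 8 (by norm_num), gUnidx_P 10 (by norm_num),
    gUnidx_P 13 (by norm_num)] at h
  linear_combination h

theorem hept2 (r : W) (hr : r ∈ golayCode) (h0 : r none = 0) :
    r (P 1) + r (P 3) + r (P 6) + r (P 16) + r (P 17) + r (P 19) + r (P 22) = 0 := by
  have h := golay_self_orth _ r mem_mask2 hr
  rw [sum_ofMask_mul, show (List.range 24).filter (fun j => (13303882 : ℕ).testBit j) =
    [1, 3, 6, 16, 17, 19, 22, 23] by decide] at h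
  simp only [List.map_cons, List.map_nil, List.sum_cons, List.sum_nil] at h
  have e : gUnidx 23 = none := rfl
  rw [e, h0, gUnidx_P 1 (by norm_num), gUnidx_P 3 (by norm_num), gUnidx_P 6 (by norm_num),
    gUnidx_P 16 (by norm_num), gUnidx_P 17 (by norm_num), gUnidx_P 19 (by norm_num),
    gUnidx_P 22 (by norm_num)] at h
  linear_combination h

end heptads


section points

theorem qx_0 : (qx : Equiv.Perm GolayPt) (P 0) = P 0 := qx_apply 0 (by norm_num)
theorem qx_1 : (qx : Equiv.Perm GolayPt) (P 1) = P 13 := qx_apply 1 (by norm_num)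
theorem qx_13 : (qx : Equiv.Perm GolayPt) (P 13) = P 1 := qx_apply 13 (by norm_num)
theorem qx_5 : (qx : Equiv.Perm GolayPt) (P 5) = P 22 := qx_apply 5 (by norm_num)
theorem qx_22 : (qx : Equiv.Perm GolayPt) (P 22) = P 8 := qx_apply 22 (by norm_num)
theorem qx_8 : (qx : Equiv.Perm GolayPt) (P 8) = P 12 := qx_apply 8 (by norm_num)
theorem qx_12 : (qx : Equiv.Perm GolayPt) (P 12) = P 5 := qx_apply 12 (by norm_num)
theorem qx_9 : (qx : Equiv.Perm GolayPt) (P 9) = P 16 := qx_apply 9 (by norm_num)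
theorem qx_16 : (qx : Equiv.Perm GolayPt) (P 16) = P 10 := qx_apply 16 (by norm_num)
theorem qx_10 : (qx : Equiv.Perm GolayPt) (P 10) = P 14 := qx_apply 10 (by norm_num)
theorem qx_14 : (qx : Equiv.Perm GolayPt) (P 14) = P 9 := qx_apply 14 (by norm_num)
theorem qy_0 : (qy : Equiv.Perm GolayPt) (P 0) = P 0 := qy_apply 0 (by norm_num)
theorem qy_1 : (qy : Equiv.Perm GolayPt) (P 1) = P 19 := qy_apply 1 (by norm_num)
theorem qy_5 : (qy : Equiv.Perm GolayPt) (P 5) = P 3 := qy_apply 5 (by norm_num)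
theorem qy_9 : (qy : Equiv.Perm GolayPt) (P 9) = P 6 := qy_apply 9 (by norm_num)
theorem qg_0 : (qg : Equiv.Perm GolayPt) (P 0) = P 17 := qg_apply 0 (by norm_num)
theorem qc_0 : (qc : Equiv.Perm GolayPt) (P 0) = P 1 := qc_apply 0 (by norm_num)

end points

section maps

variable {G H : Type*} [Group G] [Group H] (f : G →* H)

theorem map_w1 (X Y : G) : f (w1 X Y) = w1 (f X) (f Y) := by
  unfold w1; simp only [map_mul, map_inv]

theorem map_w2 (X Y : G) : f (w2 X Y) = w2 (f X) (f Y) := by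
  unfold w2; simp only [map_mul, map_inv]

theorem map_wa (X Y T : G) : f (wa X Y T) = wa (f X) (f Y) (f T) := by
  unfold wa; simp only [map_mul, map_inv]

theorem map_wb (X Y T : G) : f (wb X Y T) = wb (f X) (f Y) (f T) := by
  unfold wb; simp only [map_mul, map_inv]

theorem map_wc (X C : G) : f (wc X C) = wc (f X) (f C) := by
  unfold wc; simp only [map_mul, map_inv]

end maps

section ext

variable {E : Type u} [Group E] (N : Subgroup E) [hN : N.Normal] (φ : E ⧸ N ≃* ↥Spor.M23)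
  (ψ : Additive ↥N →+ W)

theorem pi_mul_apply (g h : E) (q : GolayPt) :
    ((piE N φ (g * h) : ↥Spor.M23) : Equiv.Perm GolayPt) q =
      ((piE N φ g : ↥Spor.M23) : Equiv.Perm GolayPt)
        (((piE N φ h : ↥Spor.M23) : Equiv.Perm GolayPt) q) := by
  rw [map_mul]; rfl

theorem psiE_mul_apply {a b : E} (ha : a ∈ N) (hb : b ∈ N) (p : GolayPt) :
    psiE N ψ (a * b) p = psiE N ψ a p + psiE N ψ b p := by
  rw [psiE_mul N ψ ha hb]; rfl

variable (hrange : ∀ w : W, w ∈ Set.range ψ ↔ (w ∈ golayCode ∧ w none = 0))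
  (hψ : ∀ (g : E) (n : ↥N),
    ψ (Additive.ofMul ⟨g * n * g⁻¹, hN.conj_mem n n.2 g⟩)
      = ψ (Additive.ofMul n) ∘ ⇑(((φ (QuotientGroup.mk g) : ↥Spor.M23) : Equiv.Perm GolayPt)⁻¹))

include hψ in
theorem ev_conj (g : E) {a : E} (ha : a ∈ N) (p q : GolayPt)
    (h : ((piE N φ g : ↥Spor.M23) : Equiv.Perm GolayPt) q = p) :
    psiE N ψ (g * a * g⁻¹) p = psiE N ψ a q := by
  rw [← h]; exact psiE_conj_apply N φ ψ hψ g ha q

include hψ in
theorem ev_conj' (g : E) {a : E} (ha : a ∈ N) (p q : GolayPt)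
    (h : ((piE N φ g : ↥Spor.M23) : Equiv.Perm GolayPt) p = q) :
    psiE N ψ (g⁻¹ * a * g) p = psiE N ψ a q := by
  have h1 := psiE_conj_apply N φ ψ hψ g⁻¹ ha q
  rw [inv_inv] at h1
  rw [← h1]
  congr 1
  rw [map_inv, ← h]
  show p = ((piE N φ g : ↥Spor.M23) : Equiv.Perm GolayPt)⁻¹
    (((piE N φ g : ↥Spor.M23) : Equiv.Perm GolayPt) p)
  exact (Equiv.symm_apply_apply _ p).symm

variable (X Y T C : E) (hX : piE N φ X = qx) (hY : piE N φ Y = qy) (hT : piE N φ T = qg)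
  (hC : piE N φ C = qc)

include hX hY in
theorem w1_mem : w1 X Y ∈ N := by
  rw [← piE_eq_one_iff N φ, map_w1, hX, hY]
  exact w1_eq_one _ _ rel_sq

include hX hY in
theorem w2_mem : w2 X Y ∈ N := by
  rw [← piE_eq_one_iff N φ, map_w2, hX, hY]
  exact w2_eq_one _ _ rel_yxy

include hX hY hT in
theorem wa_mem : wa X Y T ∈ N := by
  rw [← piE_eq_one_iff N φ, map_wa, hX, hY, hT]
  exact wa_eq_one _ _ _ rel_gx

include hX hY hT in
theorem wb_mem : wb X Y T ∈ N := by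
  rw [← piE_eq_one_iff N φ, map_wb, hX, hY, hT]
  exact wb_eq_one _ _ _ rel_gy

include hX hC in
theorem wc_mem : wc X C ∈ N := by
  rw [← piE_eq_one_iff N φ, map_wc, hX, hC]
  exact wc_eq_one _ _ rel_cs

include hX in
theorem x4_mem : X * X * X * X ∈ N := by
  rw [← piE_eq_one_iff N φ, map_mul, map_mul, map_mul, hX]
  rw [mul_assoc, mul_assoc]
  exact rel_x4

include hψ hX hY in
/-- the word of the fourth power of the lift of the first generator, first form -/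
theorem evA (p q1 q2 py : GolayPt) (h1 : (qx : Equiv.Perm GolayPt) q1 = p)
    (h2 : (qx : Equiv.Perm GolayPt) q2 = q1) (hy : (qy : Equiv.Perm GolayPt) p = py) :
    psiE N ψ (X * X * X * X) p = psiE N ψ (w1 X Y) q2 + psiE N ψ (w1 X Y) q1 +
      psiE N ψ (w2 X Y) p + psiE N ψ (w2 X Y) py := by
  have hn1 := w1_mem N φ X Y hX hY
  have hn2 := w2_mem N φ X Y hX hY
  have m1 : (X * X) * w1 X Y * (X * X)⁻¹ ∈ N := hN.conj_mem _ hn1 _
  have m2 : X * w1 X Y * X⁻¹ ∈ N := hN.conj_mem _ hn1 _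
  have m4 : Y⁻¹ * w2 X Y * Y ∈ N := hN.conj_mem' _ hn2 _
  rw [idA X Y, psiE_mul_apply N ψ m1 (N.mul_mem m2 (N.mul_mem hn2 m4)),
    psiE_mul_apply N ψ m2 (N.mul_mem hn2 m4), psiE_mul_apply N ψ hn2 m4,
    ev_conj N φ ψ hψ (X * X) hn1 p q2 (by rw [pi_mul_apply, hX, h2, h1]),
    ev_conj N φ ψ hψ X hn1 p q1 (by rw [hX, h1]),
    ev_conj' N φ ψ hψ Y hn2 p py (by rw [hY, hy])]
  ring

include hψ hX hY in
/-- the word of the fourth power of the lift of the first generator, second form -/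
theorem evB (p q1 q2 q3 py : GolayPt) (h1 : (qx : Equiv.Perm GolayPt) q1 = p)
    (h2 : (qx : Equiv.Perm GolayPt) q2 = q1) (h3 : (qx : Equiv.Perm GolayPt) q3 = q2)
    (h0 : (qx : Equiv.Perm GolayPt) p = q3) (hy : (qy : Equiv.Perm GolayPt) p = py) :
    psiE N ψ (X * X * X * X) p = psiE N ψ (w1 X Y) p + psiE N ψ (w2 X Y) q3 +
      psiE N ψ (w1 X Y) q1 + psiE N ψ (w2 X Y) p + psiE N ψ (w1 X Y) py + psiE N ψ (w1 X Y) p := by
  have hn1 := w1_mem N φ X Y hX hY
  have hn2 := w2_mem N φ X Y hX hY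
  have m1 : (X * X * X * X) * w1 X Y * (X * X * X * X)⁻¹ ∈ N := hN.conj_mem _ hn1 _
  have m2 : (X * X * X) * w2 X Y * (X * X * X)⁻¹ ∈ N := hN.conj_mem _ hn2 _
  have m3 : X * w1 X Y * X⁻¹ ∈ N := hN.conj_mem _ hn1 _
  have m5 : Y⁻¹ * w1 X Y * Y ∈ N := hN.conj_mem' _ hn1 _
  have m6 : (w1 X Y)⁻¹ ∈ N := N.inv_mem hn1
  have e := idB X Y
  have key : psiE N ψ (X * X * X * X) p =
      psiE N ψ ((X * X * X * X) * w1 X Y * (X * X * X * X)⁻¹ * (((X * X * X) * w2 X Y *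
        (X * X * X)⁻¹) * ((X * w1 X Y * X⁻¹) * (w2 X Y * ((Y⁻¹ * w1 X Y * Y) * (w1 X Y)⁻¹))))) p :=
    congrArg (fun z => psiE N ψ z p) e
  rw [key, psiE_mul_apply N ψ m1 (N.mul_mem m2 (N.mul_mem m3 (N.mul_mem hn2 (N.mul_mem m5 m6)))),
    psiE_mul_apply N ψ m2 (N.mul_mem m3 (N.mul_mem hn2 (N.mul_mem m5 m6))),
    psiE_mul_apply N ψ m3 (N.mul_mem hn2 (N.mul_mem m5 m6)),
    psiE_mul_apply N ψ hn2 (N.mul_mem m5 m6), psiE_mul_apply N ψ m5 m6,
    ev_conj N φ ψ hψ (X * X * X * X) hn1 p p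
      (by rw [pi_mul_apply, pi_mul_apply, pi_mul_apply, hX, h0, h3, h2, h1]),
    ev_conj N φ ψ hψ (X * X * X) hn2 p q3 (by rw [pi_mul_apply, pi_mul_apply, hX, h3, h2, h1]),
    ev_conj N φ ψ hψ X hn1 p q1 (by rw [hX, h1]),
    ev_conj' N φ ψ hψ Y hn1 p py (by rw [hY, hy]), psiE_inv N ψ hn1]
  ring

include hψ hX hC in
/-- the word of the fourth power has the same coordinates at two points -/
theorem x4_eq : psiE N ψ (X * X * X * X) (P 1) = psiE N ψ (X * X * X * X) (P 0) := by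
  have h4 := x4_mem N φ X hX
  have hc := wc_mem N φ X C hX hC
  have m2 : (X * X)⁻¹ * wc X C * (X * X) ∈ N := hN.conj_mem' _ hc _
  have key : psiE N ψ (C * (X * X * X * X) * C⁻¹) (P 1) =
      psiE N ψ ((X * X * X * X) * (((X * X)⁻¹ * wc X C * (X * X)) * wc X C)) (P 1) :=
    congrArg (fun z => psiE N ψ z (P 1)) (idC X C)
  rw [ev_conj N φ ψ hψ C h4 (P 1) (P 0) (by rw [hC, qc_0]),
    psiE_mul_apply N ψ h4 (N.mul_mem m2 hc), psiE_mul_apply N ψ m2 hc,
    ev_conj' N φ ψ hψ (X * X) hc (P 1) (P 1) (by rw [pi_mul_apply, hX, qx_1, qx_13])] at key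
  have h2 := zmod2_add_self (psiE N ψ (wc X C) (P 1))
  linear_combination -key - h2

include hψ hX hY hT in
/-- the relation between the coordinates of the second word at two points -/
theorem symm1 : psiE N ψ (w2 X Y) (P 17) = psiE N ψ (w2 X Y) (P 0) + psiE N ψ (w1 X Y) (P 0) := by
  have hn1 := w1_mem N φ X Y hX hY
  have hn2 := w2_mem N φ X Y hX hY
  have ha := wa_mem N φ X Y T hX hY hT
  have hb := wb_mem N φ X Y T hX hY hT
  have hai : (wa X Y T)⁻¹ ∈ N := N.inv_mem ha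
  have m1 : (X * Y) * wa X Y T * (X * Y)⁻¹ ∈ N := hN.conj_mem _ ha _
  have m2 : (X * Y * X) * wb X Y T * (X * Y * X)⁻¹ ∈ N := hN.conj_mem _ hb _
  have m3 : (X * Y * X) * (wa X Y T)⁻¹ * (X * Y * X)⁻¹ ∈ N := hN.conj_mem _ hai _
  have m5 : Y⁻¹ * w1 X Y * Y ∈ N := hN.conj_mem' _ hn1 _
  have key : psiE N ψ (T⁻¹ * w2 X Y * T) (P 0) =
      psiE N ψ (((X * Y) * wa X Y T * (X * Y)⁻¹) * (((X * Y * X) * wb X Y T * (X * Y * X)⁻¹) *
        (((X * Y * X) * (wa X Y T)⁻¹ * (X * Y * X)⁻¹) *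
          (w2 X Y * ((Y⁻¹ * w1 X Y * Y) * wb X Y T))))) (P 0) :=
    congrArg (fun z => psiE N ψ z (P 0)) (idS X Y T)
  have hxy : ((piE N φ (X * Y) : ↥Spor.M23) : Equiv.Perm GolayPt) (P 0) = P 0 := by
    rw [pi_mul_apply, hX, hY, qy_0, qx_0]
  have hxyx : ((piE N φ (X * Y * X) : ↥Spor.M23) : Equiv.Perm GolayPt) (P 0) = P 0 := by
    rw [pi_mul_apply, hX, qx_0, hxy]
  rw [ev_conj' N φ ψ hψ T hn2 (P 0) (P 17) (by rw [hT, qg_0]),
    psiE_mul_apply N ψ m1 (N.mul_mem m2 (N.mul_mem m3 (N.mul_mem hn2 (N.mul_mem m5 hb)))),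
    psiE_mul_apply N ψ m2 (N.mul_mem m3 (N.mul_mem hn2 (N.mul_mem m5 hb))),
    psiE_mul_apply N ψ m3 (N.mul_mem hn2 (N.mul_mem m5 hb)),
    psiE_mul_apply N ψ hn2 (N.mul_mem m5 hb), psiE_mul_apply N ψ m5 hb,
    ev_conj N φ ψ hψ (X * Y) ha (P 0) (P 0) hxy,
    ev_conj N φ ψ hψ (X * Y * X) hb (P 0) (P 0) hxyx,
    ev_conj N φ ψ hψ (X * Y * X) hai (P 0) (P 0) hxyx,
    ev_conj' N φ ψ hψ Y hn1 (P 0) (P 0) (by rw [hY, qy_0]), psiE_inv N ψ ha] at key
  have h2 := zmod2_add_self (psiE N ψ (wa X Y T) (P 0))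
  have h3 := zmod2_add_self (psiE N ψ (wb X Y T) (P 0))
  linear_combination key + h2 + h3

include hrange hψ hX hY hT hC in
/-- the coordinate of the second word at the first point vanishes -/
theorem psi_w2_zero : psiE N ψ (w2 X Y) (P 0) = 0 := by
  have hn1 := w1_mem N φ X Y hX hY
  have hn2 := w2_mem N φ X Y hX hY
  obtain ⟨hg1, hz1⟩ := psiE_mem N ψ hrange hn1
  obtain ⟨hg2, hz2⟩ := psiE_mem N ψ hrange hn2
  have A5 := evA N φ ψ hψ X Y hX hY (P 5) (P 12) (P 8) (P 3) qx_12 qx_8 qy_5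
  have B5 := evB N φ ψ hψ X Y hX hY (P 5) (P 12) (P 8) (P 22) (P 3) qx_12 qx_8 qx_22 qx_5 qy_5
  have A9 := evA N φ ψ hψ X Y hX hY (P 9) (P 14) (P 10) (P 6) qx_14 qx_10 qy_9
  have B9 := evB N φ ψ hψ X Y hX hY (P 9) (P 14) (P 10) (P 16) (P 6) qx_14 qx_10 qx_16 qx_9 qy_9
  have A1 := evA N φ ψ hψ X Y hX hY (P 1) (P 13) (P 1) (P 19) qx_13 qx_1 qy_1
  have A0 := evA N φ ψ hψ X Y hX hY (P 0) (P 0) (P 0) (P 0) qx_0 qx_0 qy_0
  have C1 := x4_eq N φ ψ hψ X C hX hC
  have S1 := symm1 N φ ψ hψ X Y T hX hY hT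
  have T1 := hept1 _ hg1 hz1
  have T2 := hept2 _ hg2 hz2
  have two : (2 : ZMod 2) = 0 := by decide
  linear_combination A5 - B5 + A9 - B9 - A1 - A0 + C1 + S1 - T1 - T2 +
    (psiE N ψ (w1 X Y) (P 8) + psiE N ψ (w2 X Y) (P 3) - psiE N ψ (w1 X Y) (P 5) +
      psiE N ψ (w1 X Y) (P 10) + psiE N ψ (w2 X Y) (P 6) - psiE N ψ (w1 X Y) (P 9) +
      psiE N ψ (X * X * X * X) (P 0)) * two

end ext

end Cfsg.Agent.Lib.Helper1.M23Ext
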