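import Cfsg.Agent.Lib.Helper1.M23Ext.Q8P
import Cfsg.Agent.Lib.Helper1.M22C4
import Cfsg.Agent.Lib.Helper1.M22Mult3
import Cfsg.Agent.Lib.Helper1.StemLL9
import Cfsg.Agent.Lib.Helper1.Stem20

set_option autoImplicit false
set_option maxRecDepth 100000

/-! # The lifts of the quaternion subgroup to the stem extensions of the Mathieu group of degree 22
with a kernel of order two -/

namespace Cfsg.Agent.Lib.Helper1.StemLL

open Cfsg.Agent.Lib.Helper1.MatCode Cfsg.Agent.Lib.Helper1.StemSA Cfsg.Agent.Lib.Helper1.Stem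

section

variable (L : LLData) [NeZero L.c] {G Y : Type*} [Group G] [Finite G] [MulAction G Y] [Finite Y]
  [Nonempty Y]
  (pt : ℕ → Y) (gs : List G) (H : LLHyp L pt gs) (hR : L.chkRange = true) (hLift : L.chkLift = true)
  (hTree : L.chkTree = true) (hm : 0 < L.m)

include hTree hm in
/-- two words with the same product in the group have lifts differing by the translation read off
at the first point -/
theorem wordProd_eq_transl_mul (A B : List ℕ) (hA : ∀ i ∈ A, i < L.k) (hB : ∀ i ∈ B, i < L.k)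
    (hAB : wordProd gs A = wordProd gs B) (jA zA jB zB : ℕ)
    (hactA : L.actLL A (0, 0) = (jA, zA)) (hactB : L.actLL B (0, 0) = (jB, zB)) :
    wordProd (LgL L pt gs H hR hLift) A =
      transl G L.c (EY L pt) (rhoY L pt) ((zA : ZMod L.c) - (zB : ZMod L.c)) *
        wordProd (LgL L pt gs H hR hLift) B := by
  set WA := wordProd (LgL L pt gs H hR hLift) A with hWA
  set WB := wordProd (LgL L pt gs H hR hLift) B with hWB
  have hker : WA * WB⁻¹ ∈ (sig G L.c (EY L pt) (rhoY L pt)).ker := by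
    rw [MonoidHom.mem_ker, map_mul, map_inv, hWA, hWB, sig_wordProd_LgL L pt gs H hR hLift A hA,
      sig_wordProd_LgL L pt gs H hR hLift B hB, hAB, mul_inv_cancel]
  obtain ⟨k, hk⟩ := eq_transl_of_mem_ker G L.c (EY L pt) (rhoY L pt)
    (hconn L pt gs H hR hTree hm) _ hker
  have e : WA = transl G L.c (EY L pt) (rhoY L pt) k * WB := by
    rw [← hk]; group
  have e1 := (word_apply L pt gs H hR hLift A hA 0 hm 0).2
  have e2 := (word_apply L pt gs H hR hLift B hB 0 hm 0).2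
  have h0 := (word_apply L pt gs H hR hLift A hA 0 hm 0).1
  have h0' := (word_apply L pt gs H hR hLift B hB 0 hm 0).1
  rw [hactA] at e1 h0
  rw [hactB] at e2 h0'
  have e3 : WA.1.1 (pt 0, ((0 : ℕ) : ZMod L.c)) =
      (transl G L.c (EY L pt) (rhoY L pt) k).1.1 (WB.1.1 (pt 0, ((0 : ℕ) : ZMod L.c))) := by
    rw [e]; rfl
  rw [e1, e2, transl_fst_apply] at e3
  have e4 : ((zA : ℕ) : ZMod L.c) = ((zB : ℕ) : ZMod L.c) + k := congrArg Prod.snd e3
  have e5 : k = (zA : ZMod L.c) - (zB : ZMod L.c) := by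
    rw [e4]; ring
  rw [e, e5]

end

end Cfsg.Agent.Lib.Helper1.StemLL

namespace Cfsg.Agent.Lib.Helper1.Stem

universe u v

section compare

/-- a computation with central elements -/
theorem central_calc {Γ : Type*} [Group Γ] (X Y c c' : Γ) (hc : c ∈ Subgroup.center Γ)
    (hc' : c' ∈ Subgroup.center Γ) :
    (Y * c') * (X * c) * (Y * c') * (X * c)⁻¹ = Y * X * Y * X⁻¹ * (c' * c') := by
  have h1 : ∀ g, g * c = c * g := Subgroup.mem_center_iff.mp hc
  have h2 : ∀ g, g * c' = c' * g := Subgroup.mem_center_iff.mp hc'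
  have h3 : ∀ g, g * (c' * c') = (c' * c') * g :=
    Subgroup.mem_center_iff.mp (Subgroup.mul_mem _ hc' hc')
  calc (Y * c') * (X * c) * (Y * c') * (X * c)⁻¹
      = Y * (c' * X) * (c * Y) * c' * c⁻¹ * X⁻¹ := by group
    _ = Y * (X * c') * (Y * c) * c' * c⁻¹ * X⁻¹ := by rw [← h2 X, ← h1 Y]
    _ = Y * X * (c' * Y) * (c * c') * c⁻¹ * X⁻¹ := by group
    _ = Y * X * (Y * c') * (c' * c) * c⁻¹ * X⁻¹ := by rw [← h2 Y, h2 c]
    _ = Y * X * Y * ((c' * c') * X⁻¹) := by group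
    _ = Y * X * Y * (X⁻¹ * (c' * c')) := by rw [← h3 X⁻¹]
    _ = Y * X * Y * X⁻¹ * (c' * c') := by group

variable {G : Type v} [Group G]

/-- a relation between lifts of two elements in a stem extension with a cyclic kernel of order four,
with an odd defect, does not hold without defect in a stem extension with a kernel of order two -/
theorem lift_rel_ne (hG : commutator G = ⊤)
    (hub : ∀ (Γ' : Type u) [Group Γ'] [Finite Γ'] (σ' : Γ' →* G), Cfsg.IsStemExtension σ' →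
      IsPGroup 2 σ'.ker → Nat.card σ'.ker ≤ 4)
    {Γ₀ : Type u} [Group Γ₀] [Finite Γ₀] (σ₀ : Γ₀ →* G) (h₀ : Cfsg.IsStemExtension σ₀)
    (hn : Nat.card σ₀.ker = 4) (t X₀ Y₀ : Γ₀) (htk : t ∈ σ₀.ker)
    (ht : ∀ c ∈ σ₀.ker, ∃ k : ℕ, c = t ^ k) (hrel : Y₀ * X₀ * Y₀ = t * X₀)
    {Γ : Type u} [Group Γ] [Finite Γ] (σ : Γ →* G) (hσ : Cfsg.IsStemExtension σ)
    (h2 : Nat.card σ.ker = 2) (X Y : Γ) (hX : σ X = σ₀ X₀) (hY : σ Y = σ₀ Y₀) :
    Y * X * Y ≠ X := by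
  intro hYXY
  have hp : IsPGroup 2 σ.ker := IsPGroup.of_card (n := 1) (by rw [h2]; rfl)
  have hp₀ : IsPGroup 2 σ₀.ker := IsPGroup.of_card (n := 2) (by rw [hn]; rfl)
  have hst := derHom_isStem σ σ₀ hσ.1 h₀.1 hσ.2.1 h₀.2.1 hG
  have hpk := derHom_ker_isPGroup σ σ₀ 2 hp hp₀
  have hle := hub _ (derHom σ σ₀) hst hpk
  have hΓ := perfect_of_stem σ hσ hG
  have hΓ₀ := perfect_of_stem σ₀ h₀ hG
  have hs2 := derKerSnd_surjective σ σ₀ hσ.1 hΓ₀
  have hs1 := derKerFst_surjective σ σ₀ h₀.1 hΓ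
  have hinj : Function.Injective (derKerSnd σ σ₀) := by
    have hge : Nat.card σ₀.ker ≤ Nat.card (derHom σ σ₀).ker :=
      Nat.card_le_card_of_surjective _ hs2
    have hb : Function.Bijective (derKerSnd σ σ₀) := by
      rw [Nat.bijective_iff_surjective_and_card]
      exact ⟨hs2, by omega⟩
    exact hb.1
  -- the lifts in the derived subgroup of the fibre product
  obtain ⟨dX, hdX⟩ := derHom_surjective σ σ₀ hσ.1 h₀.1 hG (σ₀ X₀)
  obtain ⟨dY, hdY⟩ := derHom_surjective σ σ₀ hσ.1 h₀.1 hG (σ₀ Y₀)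
  rw [derHom_apply] at hdX hdY
  have hdX' : σ₀ dX.1.1.2 = σ₀ X₀ := by
    rw [← hdX]; exact ((mem_fibreProd σ σ₀ dX.1.1).mp dX.1.2).symm
  have hdY' : σ₀ dY.1.1.2 = σ₀ Y₀ := by
    rw [← hdY]; exact ((mem_fibreProd σ σ₀ dY.1.1).mp dY.1.2).symm
  -- the central differences
  have hc : X⁻¹ * dX.1.1.1 ∈ σ.ker := by
    rw [MonoidHom.mem_ker, map_mul, map_inv, hdX, hX, inv_mul_cancel]
  have hc' : Y⁻¹ * dY.1.1.1 ∈ σ.ker := by
    rw [MonoidHom.mem_ker, map_mul, map_inv, hdY, hY, inv_mul_cancel]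
  have hz : X₀⁻¹ * dX.1.1.2 ∈ σ₀.ker := by
    rw [MonoidHom.mem_ker, map_mul, map_inv, hdX', inv_mul_cancel]
  have hz' : Y₀⁻¹ * dY.1.1.2 ∈ σ₀.ker := by
    rw [MonoidHom.mem_ker, map_mul, map_inv, hdY', inv_mul_cancel]
  have ea : dX.1.1.1 = X * (X⁻¹ * dX.1.1.1) := by group
  have ea' : dY.1.1.1 = Y * (Y⁻¹ * dY.1.1.1) := by group
  have eb : dX.1.1.2 = X₀ * (X₀⁻¹ * dX.1.1.2) := by group
  have eb' : dY.1.1.2 = Y₀ * (Y₀⁻¹ * dY.1.1.2) := by group
  -- the element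
  set e := dY * dX * dY * dX⁻¹ with he
  have hfst : e.1.1.1 = dY.1.1.1 * dX.1.1.1 * dY.1.1.1 * (dX.1.1.1)⁻¹ := rfl
  have hsnd : e.1.1.2 = dY.1.1.2 * dX.1.1.2 * dY.1.1.2 * (dX.1.1.2)⁻¹ := rfl
  have hsq : (Y⁻¹ * dY.1.1.1) * (Y⁻¹ * dY.1.1.1) = 1 := by
    have h := pow_card_eq_one' (G := σ.ker) (x := ⟨_, hc'⟩)
    rw [h2, pow_two] at h
    exact congrArg Subtype.val h
  have hfst1 : e.1.1.1 = 1 := by
    rw [hfst, ea, ea', central_calc X Y _ _ (hσ.2.1 hc) (hσ.2.1 hc'), hsq, mul_one,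
      hYXY, mul_inv_cancel]
  obtain ⟨k, hk⟩ := ht _ hz'
  have ht4 : t ^ 4 = 1 := by
    have h := pow_card_eq_one' (G := σ₀.ker) (x := ⟨t, htk⟩)
    rw [hn] at h
    exact congrArg Subtype.val h
  have hsnd1 : e.1.1.2 = t ^ (2 * k + 1) := by
    rw [hsnd, eb, eb', central_calc X₀ Y₀ _ _ (h₀.2.1 hz) (h₀.2.1 hz'), hk, hrel]
    have : t * X₀ * X₀⁻¹ = t := by group
    rw [this, ← pow_add, ← pow_succ']
    congr 1
    ring
  have htt : t = (t ^ (2 * k + 1)) ^ (2 * k + 1) := by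
    rw [← pow_mul]
    have : (2 * k + 1) * (2 * k + 1) = 4 * (k * k + k) + 1 := by ring
    rw [this, pow_succ, pow_mul, ht4, one_pow, one_mul]
  have hek : e ∈ (derHom σ σ₀).ker := by
    rw [MonoidHom.mem_ker, derHom_apply, hfst1, map_one]
  have hF : derKerFst σ σ₀ ⟨e, hek⟩ = 1 := Subtype.ext hfst1
  have hS : ((derKerSnd σ σ₀ ⟨e, hek⟩ : σ₀.ker) : Γ₀) = t ^ (2 * k + 1) := hsnd1
  have hall : ∀ w : (derHom σ σ₀).ker, derKerFst σ σ₀ w = 1 := by
    intro w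
    obtain ⟨j, hj⟩ := ht _ (derKerSnd σ σ₀ w).2
    have hw : w = (⟨e, hek⟩ : (derHom σ σ₀).ker) ^ ((2 * k + 1) * j) := by
      apply hinj
      apply Subtype.ext
      rw [map_pow, Subgroup.coe_pow, hS, hj, ← pow_mul]
      conv_lhs => rw [htt]
      rw [← pow_mul, ← pow_mul]
    rw [hw, map_pow, hF, one_pow]
  have hsub : Subsingleton σ.ker := by
    constructor
    intro a b
    obtain ⟨wa, rfl⟩ := hs1 a
    obtain ⟨wb, rfl⟩ := hs1 b
    rw [hall wa, hall wb]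
  have := Nat.card_of_subsingleton (1 : σ.ker)
  omega

end compare

end Cfsg.Agent.Lib.Helper1.Stem

namespace Cfsg.Agent.Lib.Helper1.M23Ext

open Cfsg Cfsg.Agent.Lib.Helper1 Cfsg.Agent.Lib.Helper1.PermCode Cfsg.Agent.Lib.Helper1.MatCode
open Cfsg.Agent.Lib.Helper1.StemLL Cfsg.Agent.Lib.Helper1.Stem Cfsg.Agent.Lib.Helper1.StemSA
open Cfsg.Agent.Lib.Helper1.M22M (GG gens wv_eq hGG hCC)
open Cfsg.Agent.Lib.Helper1.M22C4 (L rawHyp L_chk simple_M22)

open scoped Pointwise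

/-- the word of the first generator of the quaternion group -/
def wQX : List ℕ := [1,0,1,0,0,0,0,0,0,0,1,1,1,0,0,0,1,1]
/-- the word of the second generator of the quaternion group -/
def wQY : List ℕ := [1,0,1,0,1,0,1,0,0,1,1,0,1,0,1,0,1]

theorem ev_qx : permSysF.ev gens wQX = cQX := by decide +kernel

theorem ev_qy : permSysF.ev gens wQY = cQY := by decide +kernel

theorem act_yxy : L.actLL (wQY ++ wQX ++ wQY) (0, 0) = (860, 2) := by decide +kernel

theorem act_x : L.actLL wQX (0, 0) = (860, 1) := by decide +kernel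


theorem ev_yxy : permSysF.ev gens (wQY ++ wQX ++ wQY) = permSysF.ev gens wQX := by decide +kernel

theorem phi_qx22 : phiP Cfsg.Spor.M22 qx22 = permSysF.D cQX :=
  phiP_of_chkTab (chkM22_tab chk_QX) _ _

theorem phi_qy22 : phiP Cfsg.Spor.M22 qy22 = permSysF.D cQY :=
  phiP_of_chkTab (chkM22_tab chk_QY) _ _

theorem qx22_eq : qx22 = wordProd GG wQX := by
  apply phiP_injective
  rw [phi_qx22, permSysF.phi_wordProd (phiP Cfsg.Spor.M22) GG gens rfl hGG hCC, ev_qx]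

theorem qy22_eq : qy22 = wordProd GG wQY := by
  apply phiP_injective
  rw [phi_qy22, permSysF.phi_wordProd (phiP Cfsg.Spor.M22) GG gens rfl hGG hCC, ev_qy]

universe u

/-- in a stem extension of the Mathieu group of degree 22 with a kernel of order two, the lifts of
the generators of the quaternion group do not satisfy the relation of the group -/
theorem q8_lift_ne {Γ : Type u} [Group Γ] [Finite Γ] (σ : Γ →* ↥Cfsg.Spor.M22)
    (hσ : Cfsg.IsStemExtension σ) (h2 : Nat.card σ.ker = 2) (X Y : Γ) (hX : σ X = qx22)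
    (hY : σ Y = qy22) : Y * X * Y ≠ X := by
  have hyp := sub_hyp rawHyp
  obtain ⟨hst, _, hcard⟩ := stem_of_data L (ptSub rawHyp) GG hyp L_chk
  have ha := L_chk
  unfold LLData.chk at ha
  simp only [Bool.and_eq_true, decide_eq_true_eq] at ha
  obtain ⟨⟨⟨⟨⟨hm, hc⟩, hR⟩, hLift⟩, hTree⟩, _⟩ := ha
  set pt := ptSub rawHyp with hpt
  set σm := sig ↥Cfsg.Spor.M22 L.c (EY L pt) (rhoY L pt) with hσm
  set Lg := LgL L pt GG hyp hR hLift with hLg
  set X₀ := wordProd Lg wQX with hX₀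
  set Y₀ := wordProd Lg wQY with hY₀
  set t := transl ↥Cfsg.Spor.M22 L.c (EY L pt) (rhoY L pt) 1 with htdef
  have hwx : ∀ i ∈ wQX, i < L.k := by decide
  have hwy : ∀ i ∈ wQY, i < L.k := by decide
  have hwyxy : ∀ i ∈ wQY ++ wQX ++ wQY, i < L.k := by decide
  have hsX : σm X₀ = qx22 := by
    rw [hσm, hX₀, hLg, sig_wordProd_LgL L pt GG hyp hR hLift wQX hwx, qx22_eq]
  have hsY : σm Y₀ = qy22 := by
    rw [hσm, hY₀, hLg, sig_wordProd_LgL L pt GG hyp hR hLift wQY hwy, qy22_eq]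
  have hrel : Y₀ * X₀ * Y₀ = t * X₀ := by
    have h1 := wordProd_eq_transl_mul L pt GG hyp hR hLift hTree hm (wQY ++ wQX ++ wQY) wQX hwyxy hwx
      (wv_eq _ _ ev_yxy) 860 2 860 1 act_yxy act_x
    rw [wordProd_append, wordProd_append] at h1
    rw [hX₀, hY₀, hLg, h1, htdef]
    have : (((2 : ℕ) : ZMod L.c) - ((1 : ℕ) : ZMod L.c)) = 1 := by decide
    rw [this]
  have htk : t ∈ σm.ker := transl_mem_ker _ _ _ _ _
  have ht : ∀ c ∈ σm.ker, ∃ k : ℕ, c = t ^ k := by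
    intro c hc'
    obtain ⟨k, rfl⟩ := eq_transl_of_mem_ker ↥Cfsg.Spor.M22 L.c (EY L pt) (rhoY L pt)
      (hconn L pt GG hyp hR hTree hm) c hc'
    refine ⟨k.val, ?_⟩
    have h1 := transl_natCast_mul (G := ↥Cfsg.Spor.M22) L pt 1 k.val
    rw [one_mul, ZMod.natCast_zmod_val, Nat.cast_one] at h1
    exact h1
  -- the lift of the universe
  let e1 : ULift.{u} (LL ↥Cfsg.Spor.M22 L.c (EY L pt) (rhoY L pt)) ≃*
    LL ↥Cfsg.Spor.M22 L.c (EY L pt) (rhoY L pt) := MulEquiv.ulift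
  have hst' := isStem_comp_equiv e1 (MulEquiv.refl ↥Cfsg.Spor.M22) σm hst
  have hcard' : Nat.card ((MulEquiv.refl ↥Cfsg.Spor.M22).toMonoidHom.comp
      (σm.comp e1.toMonoidHom)).ker = 4 := by
    rw [Nat.card_congr (kerEquiv e1 (MulEquiv.refl ↥Cfsg.Spor.M22) σm).toEquiv, hcard]
    decide
  refine lift_rel_ne M22M.commutator_M22
    (fun Γ'' _ _ σ'' h1 h2 => M22M.card_ker_le_four_M22 Γ'' σ'' h1 h2)
    ((MulEquiv.refl ↥Cfsg.Spor.M22).toMonoidHom.comp (σm.comp e1.toMonoidHom)) hst' hcard'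
    (e1.symm t) (e1.symm X₀) (e1.symm Y₀) ?_ ?_ ?_ σ hσ h2 X Y ?_ ?_
  · rw [mem_ker_comp_equiv, MulEquiv.apply_symm_apply]
    exact htk
  · intro c hc'
    rw [mem_ker_comp_equiv] at hc'
    obtain ⟨k, hk⟩ := ht _ hc'
    refine ⟨k, ?_⟩
    rw [← map_pow, ← hk, MulEquiv.symm_apply_apply]
  · rw [← map_mul, ← map_mul, ← map_mul, hrel]
  · rw [hX, ← hsX]
    show σm X₀ = σm (e1 (e1.symm X₀))
    rw [MulEquiv.apply_symm_apply]
  · rw [hY, ← hsY]
    show σm Y₀ = σm (e1 (e1.symm Y₀))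
    rw [MulEquiv.apply_symm_apply]

end Cfsg.Agent.Lib.Helper1.M23Ext
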