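import Cfsg.Agent.Lib.Helper1.M23Ext.CASE1
import Cfsg.Agent.Lib.Helper1.M23Ext.Q8M
import Cfsg.Agent.Lib.Helper1.M23Ext.Q8C

set_option autoImplicit false
set_option maxRecDepth 100000

/-! # Extensions of the Mathieu group of degree 23 by the words of the code vanishing at the extra
point split -/

namespace Cfsg.Agent.Lib.Helper1.M23Ext

open Cfsg Cfsg.Agent.Lib.Helper1 MulAction
open Cfsg.Agent.Lib.Helper1.Stem
open Cfsg.Agent.Lib.Helper5.M23X (W)

universe u

theorem om23_zero_val : ((om23 0 : Om23) : GolayPt) = some 0 := by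
  show some ((0 : ℕ) : ZMod 23) = some 0
  rw [Nat.cast_zero]

/-- the stabilizer of the first point is the Mathieu group of degree 22 -/
def stabEquiv23 : ↥(stabilizer ↥Spor.M23 (om23 0)) ≃* ↥Spor.M22 where
  toFun g := ⟨((g : ↥Spor.M23) : Equiv.Perm GolayPt), Subgroup.mem_inf.mpr ⟨(g : ↥Spor.M23).2, by
    rw [mem_stabilizer_iff]
    have h := congrArg Subtype.val (mem_stabilizer_iff.mp g.2)
    rw [smul_val23, om23_zero_val] at h
    exact h⟩⟩
  invFun h := ⟨⟨(h : Equiv.Perm GolayPt), (Subgroup.mem_inf.mp h.2).1⟩, by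
    rw [mem_stabilizer_iff]
    apply Subtype.ext
    rw [smul_val23, om23_zero_val]
    exact mem_stabilizer_iff.mp (Subgroup.mem_inf.mp h.2).2⟩
  left_inv _ := rfl
  right_inv _ := rfl
  map_mul' _ _ := rfl

theorem stab23_perfect : commutator ↥(stabilizer ↥Spor.M23 (om23 0)) = ⊤ := by
  have h := map_commutator_of_surjective stabEquiv23.symm.toMonoidHom stabEquiv23.symm.surjective
  rw [M22M.commutator_M22] at h
  rw [← h, ← MonoidHom.range_eq_map, MonoidHom.range_eq_top]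
  exact stabEquiv23.symm.surjective

section

variable {E : Type u} [Group E] [Finite E] (N : Subgroup E) [hN : N.Normal]
  (φ : E ⧸ N ≃* ↥Spor.M23) (ψ : Additive ↥N →+ W)
  (hinj : Function.Injective ψ)
  (hrange : ∀ w : W, w ∈ Set.range ψ ↔ (w ∈ golayCode ∧ w none = 0))
  (hψ : ∀ (g : E) (n : ↥N),
    ψ (Additive.ofMul ⟨g * n * g⁻¹, hN.conj_mem n n.2 g⟩)
      = ψ (Additive.ofMul n) ∘ ⇑(((φ (QuotientGroup.mk g) : ↥Spor.M23) : Equiv.Perm GolayPt)⁻¹))

include hrange in
/-- the central extension of the stabilizer of the first point is not a stem extension -/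
theorem not_stem : ¬ Cfsg.IsStemExtension (coordHyp23 N φ ψ hψ).sg := by
  intro hst
  set H := coordHyp23 N φ ψ hψ with hH
  -- the kernel has two elements
  have hm : ofMask (bTab 0) ∈ golayCode := by
    rw [mem_golayCode_iff]
    exact ⟨1, by norm_num, by rw [show cw 1 = bTab 0 by decide]⟩
  obtain ⟨n, hn, hpn⟩ := exists_psiE N ψ hrange (ofMask (bTab 0)) hm (by decide)
  have hcard : Nat.card H.sg.ker = 2 := by
    apply H.card_ker n ((piE_eq_one_iff N φ n).mpr hn)
    rw [iota23_apply, hpn, om23_zero_val]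
    decide
  have hst' := isStem_comp_equiv (MulEquiv.refl H.Gam) stabEquiv23 H.sg hst
  have hcard' : Nat.card (stabEquiv23.toMonoidHom.comp
      (H.sg.comp (MulEquiv.refl H.Gam).toMonoidHom)).ker = 2 := by
    rw [Nat.card_congr (kerEquiv (MulEquiv.refl H.Gam) stabEquiv23 H.sg).toEquiv, hcard]
  -- the lifts
  obtain ⟨X, hX⟩ := piE_surjective N φ qx
  obtain ⟨Y, hY⟩ := piE_surjective N φ qy
  obtain ⟨T, hT⟩ := piE_surjective N φ qg
  obtain ⟨C, hC⟩ := piE_surjective N φ qc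
  have hXP : X ∈ CoordHyp.PS (piE N φ) (om23 0) := by
    show piE N φ X ∈ stabilizer ↥Spor.M23 (om23 0)
    rw [hX, mem_stabilizer_iff]
    apply Subtype.ext
    rw [smul_val23]
    exact qx_0
  have hYP : Y ∈ CoordHyp.PS (piE N φ) (om23 0) := by
    show piE N φ Y ∈ stabilizer ↥Spor.M23 (om23 0)
    rw [hY, mem_stabilizer_iff]
    apply Subtype.ext
    rw [smul_val23]
    exact qy_0
  set Xp : ↥(CoordHyp.PS (piE N φ) (om23 0)) := ⟨X, hXP⟩ with hXp
  set Yp : ↥(CoordHyp.PS (piE N φ) (om23 0)) := ⟨Y, hYP⟩ with hYp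
  have hsX : (stabEquiv23.toMonoidHom.comp (H.sg.comp (MulEquiv.refl H.Gam).toMonoidHom))
      (QuotientGroup.mk Xp) = qx22 := by
    apply Subtype.ext
    show ((piE N φ X : ↥Spor.M23) : Equiv.Perm GolayPt) = _
    rw [hX]; rfl
  have hsY : (stabEquiv23.toMonoidHom.comp (H.sg.comp (MulEquiv.refl H.Gam).toMonoidHom))
      (QuotientGroup.mk Yp) = qy22 := by
    apply Subtype.ext
    show ((piE N φ Y : ↥Spor.M23) : Equiv.Perm GolayPt) = _
    rw [hY]; rfl
  have hne := q8_lift_ne _ hst' hcard' (QuotientGroup.mk Xp) (QuotientGroup.mk Yp) hsX hsY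
  -- the coordinate vanishes
  have hz := psi_w2_zero N φ ψ hrange hψ X Y T C hX hY hT hC
  have hw2 : w2 X Y ∈ N := w2_mem N φ X Y hX hY
  have hval : ((w2 Xp Yp : ↥(CoordHyp.PS (piE N φ) (om23 0))) : E) = w2 X Y := by
    unfold w2; rfl
  have h1 : (QuotientGroup.mk (w2 Xp Yp) : H.Gam) = 1 := by
    rw [H.mk_eq_one_iff _ (by rw [hval]; exact (piE_eq_one_iff N φ _).mpr hw2), hval, iota23_apply]
    exact hz
  have h2 : w2 (QuotientGroup.mk Xp : H.Gam) (QuotientGroup.mk Yp) = 1 := by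
    rw [← h1]
    exact (map_w2 (QuotientGroup.mk' H.A₀) Xp Yp).symm
  apply hne
  unfold w2 at h2
  calc (QuotientGroup.mk Yp : H.Gam) * QuotientGroup.mk Xp * QuotientGroup.mk Yp
      = QuotientGroup.mk Yp * ((QuotientGroup.mk Xp : H.Gam) * QuotientGroup.mk Yp *
          (QuotientGroup.mk Xp)⁻¹ * QuotientGroup.mk Yp) * (QuotientGroup.mk Yp)⁻¹ *
            QuotientGroup.mk Xp := by group
    _ = QuotientGroup.mk Xp := by rw [h2]; group

include hinj hrange hψ in
/-- the extension splits -/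
theorem split_C0 : ∃ K : Subgroup E, K ⊓ N = ⊥ ∧ K ⊔ N = ⊤ := by
  rcases (coordHyp23 N φ ψ hψ).stem_or_chi stab23_perfect with hst | ⟨χ, h1, h2⟩
  · exact absurd hst (not_stem N φ ψ hrange hψ)
  · exact complement_of_chi N φ ψ hinj hrange hψ χ h1 h2

end

end Cfsg.Agent.Lib.Helper1.M23Ext
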