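import Cfsg.Agent.Lib.Helper1.M23Ext.OM23
import Cfsg.Agent.Lib.Helper1.M22Mult

set_option autoImplicit false
set_option maxRecDepth 100000

/-! # A quaternion subgroup of the Mathieu group of degree 22 and elements normalizing it -/

namespace Cfsg.Agent.Lib.Helper1.M23Ext

open Cfsg Cfsg.Agent.Lib.Helper1 Cfsg.Agent.Lib.Helper1.PermCode
open Cfsg.Agent.Lib.Helper9.M24 (natOfPt ptOfNat tperm tabOK tget tperm_apply natOfPt_tperm
  natOfPt_injective natOfPt_lt)

/-- the composition of tables -/
def wtab (ts : List (List ℕ)) (i : ℕ) : ℕ := ts.foldr (fun t j => tget t j) i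

theorem natOfPt_prod (ts : List (List ℕ)) (h : ∀ t ∈ ts, tabOK t = true) (p : GolayPt) :
    natOfPt ((ts.map tperm).prod p) = wtab ts (natOfPt p) := by
  induction ts with
  | nil => rfl
  | cons t ts ih =>
    rw [List.map_cons, List.prod_cons, Equiv.Perm.mul_apply, natOfPt_tperm (h t (by simp)),
      ih (fun t' ht' => h t' (by simp [ht']))]
    rfl

theorem prod_eq_of_wtab (ts ts' : List (List ℕ)) (h : ∀ t ∈ ts, tabOK t = true)
    (h' : ∀ t ∈ ts', tabOK t = true) (hw : ∀ i, i < 24 → wtab ts i = wtab ts' i) :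
    (ts.map tperm).prod = (ts'.map tperm).prod := by
  apply Equiv.ext
  intro p
  apply natOfPt_injective
  rw [natOfPt_prod ts h, natOfPt_prod ts' h']
  exact hw _ (natOfPt_lt p)

/-- the table of the first generator of the quaternion group -/
def tQX : List ℕ := [0, 13, 3, 20, 6, 22, 7, 11, 12, 16, 14, 4, 5, 1, 9, 19, 10, 17, 18, 15, 21, 2, 8, 23]
/-- its code -/
def cQX : ℕ := 965875583153110274440213629869100448
/-- the table of the second generator of the quaternion group -/
def tQY : List ℕ := [0, 19, 12, 8, 14, 3, 10, 16, 21, 6, 11, 9, 20, 15, 7, 13, 4, 17, 18, 1, 22, 5, 2, 23]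
/-- its code -/
def cQY : ℕ := 958209545368910515685974102556029536
/-- the table of an element of order three normalizing the quaternion group -/
def tQG : List ℕ := [17, 15, 5, 3, 9, 22, 6, 10, 12, 16, 14, 11, 20, 13, 7, 19, 4, 18, 0, 1, 8, 21, 2, 23]
/-- its code -/
def cQG : ℕ := 958840813123815692898721126344136177
/-- the table of an element centralizing the central involution -/
def tQC : List ℕ := [1, 17, 10, 3, 11, 20, 5, 6, 2, 16, 14, 8, 4, 0, 12, 13, 22, 18, 19, 15, 9, 21, 7, 23]
/-- its code -/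
def cQC : ℕ := 965333029987122197886175775672085025

theorem chk_QX : chkM22 tQX cQX = true := by decide +kernel
theorem chk_QY : chkM22 tQY cQY = true := by decide +kernel
theorem chk_QG : chkM23 tQG cQG = true := by decide +kernel
theorem chk_QC : chkM23 tQC cQC = true := by decide +kernel

theorem ok_QX : tabOK tQX = true := (chkTab_sound (chkM22_tab chk_QX)).1
theorem ok_QY : tabOK tQY = true := (chkTab_sound (chkM22_tab chk_QY)).1
theorem ok_QG : tabOK tQG = true := (chkTab_sound (chkM23_tab chk_QG)).1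
theorem ok_QC : tabOK tQC = true := (chkTab_sound (chkM23_tab chk_QC)).1

/-- the generators of the quaternion group in the Mathieu group of degree 22 -/
def qx22 : ↥Spor.M22 := ⟨tperm tQX, chkM22_mem chk_QX⟩
def qy22 : ↥Spor.M22 := ⟨tperm tQY, chkM22_mem chk_QY⟩

theorem M22_le_M23 : Spor.M22 ≤ Spor.M23 := fun _ h => (Subgroup.mem_inf.mp h).1

/-- the elements in the Mathieu group of degree 23 -/
def qx : ↥Spor.M23 := ⟨tperm tQX, M22_le_M23 (chkM22_mem chk_QX)⟩
def qy : ↥Spor.M23 := ⟨tperm tQY, M22_le_M23 (chkM22_mem chk_QY)⟩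
def qg : ↥Spor.M23 := ⟨tperm tQG, chkM23_mem chk_QG⟩
def qc : ↥Spor.M23 := ⟨tperm tQC, chkM23_mem chk_QC⟩

theorem tabs_ok (ts : List (List ℕ)) (h : ∀ t ∈ ts, t = tQX ∨ t = tQY ∨ t = tQG ∨ t = tQC) :
    ∀ t ∈ ts, tabOK t = true := by
  intro t ht
  rcases h t ht with rfl | rfl | rfl | rfl
  · exact ok_QX
  · exact ok_QY
  · exact ok_QG
  · exact ok_QC

/-- the relations -/
theorem rel_sq : qx * qx = qy * qy := by
  apply Subtype.ext
  have h := prod_eq_of_wtab [tQX, tQX] [tQY, tQY] (tabs_ok _ (by simp)) (tabs_ok _ (by simp))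
    (by decide)
  simp only [List.map_cons, List.map_nil, List.prod_cons, List.prod_nil, mul_one] at h
  exact h

theorem rel_yxy : qy * (qx * qy) = qx := by
  apply Subtype.ext
  have h := prod_eq_of_wtab [tQY, tQX, tQY] [tQX] (tabs_ok _ (by simp)) (tabs_ok _ (by simp))
    (by decide)
  simp only [List.map_cons, List.map_nil, List.prod_cons, List.prod_nil, mul_one] at h
  exact h

theorem rel_gx : qx * qg = qg * (qx * qy) := by
  apply Subtype.ext
  have h := prod_eq_of_wtab [tQX, tQG] [tQG, tQX, tQY] (tabs_ok _ (by simp)) (tabs_ok _ (by simp))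
    (by decide)
  simp only [List.map_cons, List.map_nil, List.prod_cons, List.prod_nil, mul_one] at h
  exact h

theorem rel_gy : qy * qg = qg * qx := by
  apply Subtype.ext
  have h := prod_eq_of_wtab [tQY, tQG] [tQG, tQX] (tabs_ok _ (by simp)) (tabs_ok _ (by simp))
    (by decide)
  simp only [List.map_cons, List.map_nil, List.prod_cons, List.prod_nil, mul_one] at h
  exact h

theorem rel_cs : qc * (qx * qx) = qx * (qx * qc) := by
  apply Subtype.ext
  have h := prod_eq_of_wtab [tQC, tQX, tQX] [tQX, tQX, tQC] (tabs_ok _ (by simp))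
    (tabs_ok _ (by simp)) (by decide)
  simp only [List.map_cons, List.map_nil, List.prod_cons, List.prod_nil, mul_one] at h
  exact h

theorem rel_x4 : qx * (qx * (qx * qx)) = 1 := by
  apply Subtype.ext
  have h := prod_eq_of_wtab [tQX, tQX, tQX, tQX] [] (tabs_ok _ (by simp)) (tabs_ok _ (by simp))
    (by decide)
  simp only [List.map_cons, List.map_nil, List.prod_cons, List.prod_nil, mul_one] at h
  exact h

/-- the action on the 23 points -/
theorem qx_apply (j : ℕ) (hj : j < 23) :
    (qx : Equiv.Perm GolayPt) (some (j : ZMod 23)) = some ((tget tQX j : ℕ) : ZMod 23) :=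
  tperm_some ok_QX j hj ((by decide : ∀ j, j < 23 → tget tQX j < 23) j hj)

theorem qy_apply (j : ℕ) (hj : j < 23) :
    (qy : Equiv.Perm GolayPt) (some (j : ZMod 23)) = some ((tget tQY j : ℕ) : ZMod 23) :=
  tperm_some ok_QY j hj ((by decide : ∀ j, j < 23 → tget tQY j < 23) j hj)

theorem qg_apply (j : ℕ) (hj : j < 23) :
    (qg : Equiv.Perm GolayPt) (some (j : ZMod 23)) = some ((tget tQG j : ℕ) : ZMod 23) :=
  tperm_some ok_QG j hj ((by decide : ∀ j, j < 23 → tget tQG j < 23) j hj)

theorem qc_apply (j : ℕ) (hj : j < 23) :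
    (qc : Equiv.Perm GolayPt) (some (j : ZMod 23)) = some ((tget tQC j : ℕ) : ZMod 23) :=
  tperm_some ok_QC j hj ((by decide : ∀ j, j < 23 → tget tQC j < 23) j hj)

end Cfsg.Agent.Lib.Helper1.M23Ext
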