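import Cfsg.Agent.Lib.Helper1.M23Ext.DER

set_option autoImplicit false

/-! # Relators and the classification of the extension subgroups up to conjugacy -/

namespace Cfsg.Agent.Lib.Helper1.M23Ext

universe u v

section

variable {G : Type u} [Group G] {Ω : Type v} [MulAction G Ω]

/-- the value of a word in two letters (`false` for `x`, `true` for `b`) -/
def evalG (x b : G) : List Bool → G
  | [] => 1
  | l :: r => (if l then b else x) * evalG x b r

/-- the function part of the product of the lifts `(0, x)` and `(w, b)` along a word -/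
def Dop (x b : G) : List Bool → (Ω → ZMod 2) → (Ω → ZMod 2)
  | [], _ => 0
  | l :: r, w => (if l then w else 0) + tw (if l then b else x) (Dop x b r w)

theorem Dop_add (x b : G) (r : List Bool) (w w' : Ω → ZMod 2) :
    Dop x b r (w + w') = Dop x b r w + Dop x b r w' := by
  induction r with
  | nil => simp [Dop]
  | cons l r ih =>
    simp only [Dop, ih, tw_add]
    cases l
    · simp
    · simp only [if_true]; abel

theorem Dop_zero (x b : G) (r : List Bool) : Dop x b r (0 : Ω → ZMod 2) = 0 := by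
  induction r with
  | nil => simp [Dop]
  | cons l r ih =>
    simp only [Dop, ih, tw_zero]
    cases l <;> simp

/-- `Dop` as an additive homomorphism -/
def DopHom (x b : G) (r : List Bool) : (Ω → ZMod 2) →+ (Ω → ZMod 2) where
  toFun := Dop x b r
  map_zero' := Dop_zero x b r
  map_add' := Dop_add x b r

/-- the lift of a letter -/
def liftL (x b : G) (w : Ω → ZMod 2) (l : Bool) : WP G Ω := if l then ⟨w, b⟩ else WP.sec x

theorem prod_lift (x b : G) (w : Ω → ZMod 2) (r : List Bool) :
    (r.map (liftL x b w)).prod = ⟨Dop x b r w, evalG x b r⟩ := by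
  induction r with
  | nil => rfl
  | cons l r ih =>
    rw [List.map_cons, List.prod_cons, ih]
    apply WP.ext
    · cases l
      · simp only [liftL, WP.mul_f, Dop]
        simp only [Bool.false_eq_true, if_false]
        rw [WP.sec_f, WP.sec_g]
      · simp only [liftL, WP.mul_f, Dop]; simp
    · cases l
      · simp only [liftL, WP.mul_g, evalG]
        simp only [Bool.false_eq_true, if_false]
        rw [WP.sec_g]
      · simp only [liftL, WP.mul_g, evalG]; simp

variable {X : Subgroup (WP G Ω)} {V : AddSubgroup (Ω → ZMod 2)}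

/-- the constraint from a relator -/
theorem IsExtSub.Dop_mem (H : IsExtSub X V) (x b : G) (w : Ω → ZMod 2)
    (hx : (WP.sec x : WP G Ω) ∈ X) (hb : (⟨w, b⟩ : WP G Ω) ∈ X) (r : List Bool)
    (hr : evalG x b r = 1) : Dop x b r w ∈ V := by
  have h1 : (r.map (liftL x b w)).prod ∈ X := by
    apply Subgroup.list_prod_mem
    intro a ha
    rw [List.mem_map] at ha
    obtain ⟨l, _, rfl⟩ := ha
    cases l
    · exact hx
    · exact hb
  rw [prod_lift, hr] at h1
  exact H.ker_mem _ h1 rfl

/-- the standard subgroups -/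
def Ystd (x b : G) (V : AddSubgroup (Ω → ZMod 2)) (s : Ω → ZMod 2) : Subgroup (WP G Ω) :=
  Subgroup.closure (({WP.sec x, ⟨s, b⟩} : Set (WP G Ω)) ∪ (WP.base '' (V : Set (Ω → ZMod 2))))

theorem IsExtSub.eq_Ystd (H : IsExtSub X V) (x b : G) (s : Ω → ZMod 2)
    (hgen : Subgroup.closure ({x, b} : Set G) = ⊤)
    (hx : (WP.sec x : WP G Ω) ∈ X) (hb : (⟨s, b⟩ : WP G Ω) ∈ X) : X = Ystd x b V s := by
  unfold Ystd
  apply H.eq_closure
  · intro a ha
    rcases ha with rfl | rfl
    · exact hx
    · exact hb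
  · have : (WP.proj '' ({WP.sec x, ⟨s, b⟩} : Set (WP G Ω))) = ({x, b} : Set G) := by
      rw [Set.image_pair]; rfl
    rw [this, hgen]

/-- the classification up to conjugacy -/
theorem IsExtSub.classify (H : IsExtSub X V) (x b : G) (m : ℕ) (hm : Odd m) (hxm : x ^ m = 1)
    (hgen : Subgroup.closure ({x, b} : Set G) = ⊤) (rels : List (List Bool))
    (hrel : ∀ r ∈ rels, evalG x b r = 1) (s₀ : Ω → ZMod 2)
    (cert : ∀ w : Ω → ZMod 2, (∀ r ∈ rels, Dop x b r w ∈ V) →
      ∃ u : Ω → ZMod 2, tw x u = u ∧ (w + (u + tw b u) ∈ V ∨ w + s₀ + (u + tw b u) ∈ V)) :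
    ∃ u : Ω → ZMod 2, conjX u X = Ystd x b V 0 ∨ conjX u X = Ystd x b V s₀ := by
  obtain ⟨u₁, hu₁⟩ := H.exists_conj_sec x m hm hxm
  have H1 := H.conj u₁
  obtain ⟨a, ha, hag⟩ := H1.surj b
  have hb : (⟨a.f, b⟩ : WP G Ω) ∈ conjX u₁ X := by
    have : (⟨a.f, b⟩ : WP G Ω) = a := by apply WP.ext <;> simp [hag]
    rw [this]; exact ha
  obtain ⟨u₂, hfix, hcase⟩ := cert a.f (fun r hr => H1.Dop_mem x b a.f hu₁ hb r (hrel r hr))
  have H2 := H1.conj u₂
  have hx2 : (WP.sec x : WP G Ω) ∈ conjX u₂ (conjX u₁ X) := by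
    rw [mem_conjX]
    simp only [WP.sec_f, WP.sec_g, add_zero, hfix]
    have : u₂ + u₂ = 0 := by funext ω; exact zmod2_add_self _
    rw [this]
    exact hu₁
  have hb2 : (⟨a.f + (u₂ + tw b u₂), b⟩ : WP G Ω) ∈ conjX u₂ (conjX u₁ X) := by
    rw [mem_conjX]
    have : u₂ + (a.f + (u₂ + tw b u₂)) + tw b u₂ = a.f := by
      funext ω
      simp only [Pi.add_apply]
      have h1 := zmod2_add_self (u₂ ω)
      have h2 := zmod2_add_self (tw b u₂ ω)
      linear_combination h1 + h2
    show (⟨u₂ + (a.f + (u₂ + tw b u₂)) + tw b u₂, b⟩ : WP G Ω) ∈ conjX u₁ X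
    rw [this]
    exact hb
  refine ⟨u₁ + u₂, ?_⟩
  rw [← conjX_conjX]
  rcases hcase with hc | hc
  · left
    apply H2.eq_Ystd x b 0 hgen hx2
    have h3 := H2.add_mem hb2 hc
    have : a.f + (u₂ + tw b u₂) + (a.f + (u₂ + tw b u₂)) = 0 := by
      funext ω; exact zmod2_add_self _
    simp only [this] at h3
    exact h3
  · right
    apply H2.eq_Ystd x b s₀ hgen hx2
    have h3 := H2.add_mem hb2 hc
    have : a.f + s₀ + (u₂ + tw b u₂) + (a.f + (u₂ + tw b u₂)) = s₀ := by
      funext ω
      simp only [Pi.add_apply]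
      have h1 := zmod2_add_self (a.f ω)
      have h2 := zmod2_add_self (u₂ ω)
      have h4 := zmod2_add_self (tw b u₂ ω)
      linear_combination h1 + h2 + h4
    simp only [this] at h3
    exact h3

/-- the standard subgroup without twist contains the section -/
theorem sec_le_Ystd_zero (x b : G) (V : AddSubgroup (Ω → ZMod 2))
    (hgen : Subgroup.closure ({x, b} : Set G) = ⊤) :
    (WP.sec : G →* WP G Ω).range ≤ Ystd x b V 0 := by
  rintro _ ⟨g, rfl⟩
  have hg : g ∈ Subgroup.closure ({x, b} : Set G) := by rw [hgen]; exact Subgroup.mem_top _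
  induction hg using Subgroup.closure_induction with
  | mem g hg =>
    rcases hg with rfl | rfl
    · exact Subgroup.subset_closure (Or.inl (Or.inl rfl))
    · exact Subgroup.subset_closure (Or.inl (Or.inr rfl))
  | one => rw [map_one]; exact Subgroup.one_mem _
  | mul g g' _ _ ih ih' => rw [map_mul]; exact Subgroup.mul_mem _ ih ih'
  | inv g _ ih => rw [map_inv]; exact Subgroup.inv_mem _ ih

end

end Cfsg.Agent.Lib.Helper1.M23Ext
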