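import Cfsg.Agent.Lib.Helper1.M23Ext.WP

set_option autoImplicit false

/-! # Embedding an extension into a permutational wreath product

Let `π : E →* G` be surjective, let `G` act transitively on `Ω`, and let the kernel of `π` be
embedded equivariantly into the functions on `Ω` with values in the integers modulo two.  If the
coordinate at a point `ω₀` extends to a homomorphism defined on the preimage of the stabilizer of
`ω₀`, then `E` embeds into the wreath product. -/

namespace Cfsg.Agent.Lib.Helper1.M23Ext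

open MulAction

universe u v w

section

variable {E : Type u} [Group E] {G : Type v} [Group G] {Ω : Type w} [MulAction G Ω]

/-- the hypotheses of the embedding -/
structure SEHyp (π : E →* G) (ι : E → Ω → ZMod 2) (ω₀ : Ω) (χ : E → ZMod 2) : Prop where
  surj : Function.Surjective π
  trans : ∀ ω : Ω, ∃ g : G, g • ω₀ = ω
  add : ∀ n n' : E, π n = 1 → π n' = 1 → ι (n * n') = ι n + ι n'
  inj : ∀ n : E, π n = 1 → ι n = 0 → n = 1
  equiv : ∀ (e n : E), π n = 1 → ι (e * n * e⁻¹) = tw (π e) (ι n)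
  chi_mul : ∀ e e' : E, π e • ω₀ = ω₀ → π e' • ω₀ = ω₀ → χ (e * e') = χ e + χ e'
  chi_ker : ∀ n : E, π n = 1 → χ n = ι n ω₀

variable {π : E →* G} {ι : E → Ω → ZMod 2} {ω₀ : Ω} {χ : E → ZMod 2}

/-- a transversal -/
noncomputable def SEHyp.t (H : SEHyp π ι ω₀ χ) (ω : Ω) : E :=
  Classical.choose (H.surj (Classical.choose (H.trans ω)))

theorem SEHyp.t_spec (H : SEHyp π ι ω₀ χ) (ω : Ω) : π (H.t ω) • ω₀ = ω := by
  unfold SEHyp.t
  rw [Classical.choose_spec (H.surj (Classical.choose (H.trans ω)))]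
  exact Classical.choose_spec (H.trans ω)

/-- the function part of the image of an element -/
noncomputable def SEHyp.ff (H : SEHyp π ι ω₀ χ) (e : E) (ω : Ω) : ZMod 2 :=
  χ ((H.t ω)⁻¹ * e * H.t ((π e)⁻¹ • ω))

theorem SEHyp.stab (H : SEHyp π ι ω₀ χ) (e : E) (ω : Ω) :
    π ((H.t ω)⁻¹ * e * H.t ((π e)⁻¹ • ω)) • ω₀ = ω₀ := by
  rw [map_mul, map_mul, map_inv, mul_smul, mul_smul, H.t_spec, smul_inv_smul]
  rw [inv_smul_eq_iff, H.t_spec]

theorem SEHyp.ff_mul (H : SEHyp π ι ω₀ χ) (e e' : E) :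
    H.ff (e * e') = H.ff e + tw (π e) (H.ff e') := by
  funext ω
  simp only [Pi.add_apply, tw_apply]
  unfold SEHyp.ff
  rw [← H.chi_mul _ _ (H.stab e ω) (H.stab e' ((π e)⁻¹ • ω))]
  congr 1
  rw [map_mul, mul_inv_rev, mul_smul]
  group

theorem SEHyp.ff_ker (H : SEHyp π ι ω₀ χ) (n : E) (hn : π n = 1) : H.ff n = ι n := by
  funext ω
  unfold SEHyp.ff
  rw [hn, inv_one, one_smul]
  have h1 : π ((H.t ω)⁻¹ * n * H.t ω) = 1 := by
    rw [map_mul, map_mul, hn, mul_one, map_inv, inv_mul_cancel]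
  rw [H.chi_ker _ h1]
  have h2 := H.equiv (H.t ω)⁻¹ n hn
  rw [inv_inv] at h2
  rw [h2, tw_apply, map_inv, inv_inv, H.t_spec]

/-- the embedding -/
noncomputable def SEHyp.rho (H : SEHyp π ι ω₀ χ) : E →* WP G Ω where
  toFun := fun e => ⟨H.ff e, π e⟩
  map_one' := by
    apply WP.ext
    · show H.ff 1 = 0
      rw [H.ff_ker 1 (map_one π)]
      have h := H.add 1 1 (map_one π) (map_one π)
      rw [mul_one] at h
      funext ω
      have := congrFun h ω
      simp only [Pi.add_apply, Pi.zero_apply] at this ⊢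
      rw [zmod2_add_self] at this
      exact this
    · exact map_one π
  map_mul' := by
    intro e e'
    apply WP.ext
    · exact H.ff_mul e e'
    · exact map_mul π e e'

theorem SEHyp.rho_g (H : SEHyp π ι ω₀ χ) (e : E) : (H.rho e).g = π e := rfl

theorem SEHyp.rho_f (H : SEHyp π ι ω₀ χ) (e : E) : (H.rho e).f = H.ff e := rfl

theorem SEHyp.rho_ker (H : SEHyp π ι ω₀ χ) (n : E) (hn : π n = 1) : H.rho n = WP.base (ι n) := by
  apply WP.ext
  · exact H.ff_ker n hn
  · exact hn

theorem SEHyp.rho_injective (H : SEHyp π ι ω₀ χ) : Function.Injective H.rho := by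
  rw [injective_iff_map_eq_one]
  intro e he
  have h1 : π e = 1 := congrArg WP.g he
  have h2 := H.rho_ker e h1
  rw [he] at h2
  have h3 : ι e = 0 := (congrArg WP.f h2).symm
  exact H.inj e h1 h3

end

end Cfsg.Agent.Lib.Helper1.M23Ext
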