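import Cfsg.Agent.Lib.Helper1.M23Ext.REL

set_option autoImplicit false

/-! # Functions with values in the integers modulo two on an indexed set, as natural numbers -/

namespace Cfsg.Agent.Lib.Helper1.M23Ext

universe u v

/-- an indexing of a type by the natural numbers below `n` -/
structure IdxData (Ω : Type v) (n : ℕ) where
  om : ℕ → Ω
  idx : Ω → ℕ
  idx_lt : ∀ ω, idx ω < n
  om_idx : ∀ ω, om (idx ω) = ω
  idx_om : ∀ j, j < n → idx (om j) = j

/-- the exclusive or of a list -/
def xorL : List ℕ → ℕ
  | [] => 0
  | a :: l => a ^^^ xorL l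

/-- the indices of the bits below `n` of a number -/
def bitsBelow (n m : ℕ) : List ℕ := (List.range n).filter (fun k => m.testBit k)

section

variable {Ω : Type v} {n : ℕ} (I : IdxData Ω n)

/-- the function with the bits of a natural number as values -/
def ofN (m : ℕ) : Ω → ZMod 2 := fun ω => if m.testBit (I.idx ω) then 1 else 0

theorem ofN_apply (m : ℕ) (ω : Ω) : ofN I m ω = if m.testBit (I.idx ω) then 1 else 0 := rfl

theorem ofN_om (m j : ℕ) (hj : j < n) : ofN I m (I.om j) = if m.testBit j then 1 else 0 := by
  rw [ofN_apply, I.idx_om j hj]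

theorem ofN_zero : ofN I 0 = 0 := by
  funext ω; simp [ofN]

theorem ofN_xor (a b : ℕ) : ofN I (a ^^^ b) = ofN I a + ofN I b := by
  funext ω
  simp only [ofN, Pi.add_apply, Nat.testBit_xor]
  cases a.testBit (I.idx ω) <;> cases b.testBit (I.idx ω) <;> decide

theorem ofN_xorL (L : List ℕ) : ofN I (xorL L) = (L.map (ofN I)).sum := by
  induction L with
  | nil => simp [xorL, ofN_zero]
  | cons a l ih => simp only [xorL, ofN_xor, ih, List.map_cons, List.sum_cons]

theorem om_inj (j j' : ℕ) (hj : j < n) (hj' : j' < n) (h : I.om j = I.om j') : j = j' := by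
  rw [← I.idx_om j hj, ← I.idx_om j' hj', h]

theorem ofN_bit [DecidableEq Ω] (j : ℕ) (hj : j < n) : ofN I (2 ^ j) = Pi.single (I.om j) 1 := by
  funext ω
  simp only [ofN, Pi.single_apply, Nat.testBit_two_pow]
  by_cases h : ω = I.om j
  · subst h
    rw [I.idx_om j hj]; simp
  · rw [if_neg h, if_neg]
    simp only [decide_eq_true_eq]
    intro h2
    apply h
    rw [h2, I.om_idx]

/-- every function is of the form `ofN` -/
theorem exists_ofN (w : Ω → ZMod 2) : ∃ m : ℕ, ofN I m = w := by
  classical
  have key : ∀ k : ℕ, ∃ m : ℕ, ∀ j, m.testBit j = (decide (j < k) && decide (w (I.om j) = 1)) := by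
    intro k
    induction k with
    | zero => exact ⟨0, fun j => by simp⟩
    | succ k ih =>
      obtain ⟨m, hm⟩ := ih
      by_cases hk : w (I.om k) = 1
      · refine ⟨m ^^^ 2 ^ k, fun j => ?_⟩
        rw [Nat.testBit_xor, hm, Nat.testBit_two_pow]
        by_cases hjk : j = k
        · subst hjk; simp [hk]
        · have : ¬ k = j := fun h => hjk h.symm
          simp only [this, decide_false, Bool.bne_false]
          by_cases hlt : j < k
          · have : j < k + 1 := by omega
            simp [hlt, this]
          · have : ¬ j < k + 1 := by omega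
            simp [hlt, this]
      · refine ⟨m, fun j => ?_⟩
        rw [hm]
        by_cases hjk : j = k
        · subst hjk; simp [hk]
        · by_cases hlt : j < k
          · have : j < k + 1 := by omega
            simp [hlt, this]
          · have : ¬ j < k + 1 := by omega
            simp [hlt, this]
  obtain ⟨m, hm⟩ := key n
  refine ⟨m, ?_⟩
  funext ω
  rw [ofN_apply, hm, I.om_idx]
  simp only [I.idx_lt ω, decide_true, Bool.true_and, decide_eq_true_eq]
  by_cases h : w ω = 1
  · rw [if_pos h, h]
  · rw [if_neg h]
    have : ∀ a : ZMod 2, a ≠ 1 → 0 = a := by decide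
    exact this _ h

/-- the additive map with given columns -/
def matMap (col : ℕ → ℕ) : (Ω → ZMod 2) →+ (Ω → ZMod 2) where
  toFun := fun w => ((List.range n).map (fun k => w (I.om k) • ofN I (col k))).sum
  map_zero' := by
    simp only [Pi.zero_apply, zero_smul]
    induction (List.range n) with
    | nil => rfl
    | cons a l ih => simp only [List.map_cons, List.sum_cons, ih, add_zero]
  map_add' := by
    intro w w'
    simp only [Pi.add_apply, add_smul]
    induction (List.range n) with
    | nil => simp
    | cons a l ih =>
      simp only [List.map_cons, List.sum_cons, ih]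
      abel

theorem matMap_apply (col : ℕ → ℕ) (w : Ω → ZMod 2) :
    matMap I col w = ((List.range n).map (fun k => w (I.om k) • ofN I (col k))).sum := rfl

theorem sum_map_filter {A : Type*} [AddCommMonoid A] (L : List ℕ) (p : ℕ → Bool) (F : ℕ → A) :
    (L.map (fun k => if p k then F k else 0)).sum = ((L.filter p).map F).sum := by
  induction L with
  | nil => rfl
  | cons a l ih =>
    simp only [List.map_cons, List.sum_cons, List.filter_cons, ih]
    cases p a <;> simp

theorem matMap_ofN (col : ℕ → ℕ) (m : ℕ) :
    matMap I col (ofN I m) = ofN I (xorL ((bitsBelow n m).map col)) := by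
  rw [matMap_apply, ofN_xorL, List.map_map]
  unfold bitsBelow
  have h1 := sum_map_filter (List.range n) (fun k => m.testBit k) (fun k => ofN I (col k))
  have h2 : ((List.range n).filter (fun k => m.testBit k)).map (ofN I ∘ col) =
      ((List.range n).filter (fun k => m.testBit k)).map (fun k => ofN I (col k)) := rfl
  rw [h2, ← h1]
  congr 1
  apply List.map_congr_left
  intro k hk
  rw [List.mem_range] at hk
  rw [ofN_om I m k hk]
  cases m.testBit k <;> simp

theorem bitsBelow_two_pow (j : ℕ) (hj : j < n) : bitsBelow n (2 ^ j) = [j] := by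
  unfold bitsBelow
  simp only [Nat.testBit_two_pow]
  induction n with
  | zero => omega
  | succ k ih =>
    rw [List.range_succ, List.filter_append]
    by_cases hjk : j = k
    · subst hjk
      have : (List.range j).filter (fun k => decide (j = k)) = [] := by
        rw [List.filter_eq_nil_iff]
        intro a ha
        rw [List.mem_range] at ha
        simp only [decide_eq_true_eq]
        omega
      rw [this]
      simp
    · have hlt : j < k := by omega
      have h1 := ih hlt
      rw [h1]
      simp only [List.filter_cons, List.filter_nil]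
      have : ¬ j = k := hjk
      simp [this]

theorem matMap_single [DecidableEq Ω] (col : ℕ → ℕ) (j : ℕ) (hj : j < n) :
    matMap I col (Pi.single (I.om j) 1) = ofN I (col j) := by
  rw [← ofN_bit I j hj, matMap_ofN, bitsBelow_two_pow j hj]
  simp [xorL]

/-- an additive map with values in a subgroup on the indicator functions has all its values there -/
theorem addHom_mem_of_single [DecidableEq Ω] {A : Type*} [AddCommGroup A]
    (F : (Ω → ZMod 2) →+ A) (T : AddSubgroup A)
    (h : ∀ j, j < n → F (Pi.single (I.om j) 1) ∈ T) (w : Ω → ZMod 2) : F w ∈ T := by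
  obtain ⟨m, rfl⟩ := exists_ofN I w
  have key : ∀ k : ℕ, k ≤ n → ∀ m : ℕ, (∀ j, k ≤ j → m.testBit j = false) → F (ofN I m) ∈ T := by
    intro k
    induction k with
    | zero =>
      intro _ m hm
      have : m = 0 := by
        apply Nat.eq_of_testBit_eq
        intro j
        rw [hm j (Nat.zero_le _)]; simp
      rw [this, ofN_zero, map_zero]
      exact T.zero_mem
    | succ k ih =>
      intro hk m hm
      by_cases hb : m.testBit k = true
      · have h1 : F (ofN I (m ^^^ 2 ^ k)) ∈ T := by
          apply ih (by omega)
          intro j hj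
          rw [Nat.testBit_xor, Nat.testBit_two_pow]
          by_cases hjk : j = k
          · subst hjk; simp [hb]
          · have : ¬ k = j := fun h => hjk h.symm
            simp only [this, decide_false, Bool.bne_false]
            exact hm j (by omega)
        have h2 : ofN I m = ofN I (m ^^^ 2 ^ k) + ofN I (2 ^ k) := by
          rw [← ofN_xor, Nat.xor_assoc, Nat.xor_self, Nat.xor_zero]
        rw [h2, map_add, ofN_bit I k (by omega)]
        exact T.add_mem h1 (h k (by omega))
      · apply ih (by omega)
        intro j hj
        by_cases hjk : j = k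
        · subst hjk; simpa using hb
        · exact hm j (by omega)
  -- reduce `m` modulo `2 ^ n`
  have h3 : ofN I m = ofN I (m % 2 ^ n) := by
    funext ω
    rw [ofN_apply, ofN_apply, Nat.testBit_mod_two_pow]
    simp [I.idx_lt ω]
  rw [h3]
  apply key n le_rfl
  intro j hj
  rw [Nat.testBit_mod_two_pow]
  have : ¬ j < n := by omega
  simp [this]

end

section action

variable {G : Type u} [Group G] {Ω : Type v} [MulAction G Ω] {n : ℕ} (I : IdxData Ω n)

/-- the action of a group element given by a table, on the functions given by bits -/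
theorem tw_ofN (g : G) (π : ℕ → ℕ) (hπ : ∀ j, j < n → g • I.om j = I.om (π j))
    (hlt : ∀ j, j < n → π j < n) (m m' : ℕ)
    (h : ∀ j, j < n → m'.testBit (π j) = m.testBit j) : tw g (ofN I m) = ofN I m' := by
  funext ω
  rw [tw_apply, ofN_apply, ofN_apply]
  have h1 : g • I.om (I.idx (g⁻¹ • ω)) = ω := by rw [I.om_idx, smul_inv_smul]
  rw [hπ _ (I.idx_lt _)] at h1
  have h2 : I.idx ω = π (I.idx (g⁻¹ • ω)) := by
    conv_lhs => rw [← h1]
    rw [I.idx_om _ (hlt _ (I.idx_lt _))]
  rw [h2, h _ (I.idx_lt _)]

/-- the list of the points in the value of `Dop` on an indicator function -/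
def dlist (πx πb : ℕ → ℕ) : List Bool → ℕ → List ℕ
  | [], _ => []
  | l :: r, j => (if l then [j] else []) ++ (dlist πx πb r j).map (if l then πb else πx)

theorem dlist_lt (πx πb : ℕ → ℕ) (hx : ∀ j, j < n → πx j < n) (hb : ∀ j, j < n → πb j < n)
    (r : List Bool) (j : ℕ) (hj : j < n) : ∀ i ∈ dlist πx πb r j, i < n := by
  induction r with
  | nil => intro i hi; simp [dlist] at hi
  | cons l r ih =>
    intro i hi
    simp only [dlist, List.mem_append, List.mem_map] at hi
    rcases hi with hi | ⟨i', hi', rfl⟩
    · cases l
      · simp at hi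
      · simp at hi; rw [hi]; exact hj
    · cases l
      · exact hx _ (ih i' hi')
      · exact hb _ (ih i' hi')

theorem Dop_single [DecidableEq Ω] (x b : G) (πx πb : ℕ → ℕ)
    (hπx : ∀ j, j < n → x • I.om j = I.om (πx j)) (hπb : ∀ j, j < n → b • I.om j = I.om (πb j))
    (hx : ∀ j, j < n → πx j < n) (hb : ∀ j, j < n → πb j < n)
    (r : List Bool) (j : ℕ) (hj : j < n) :
    Dop x b r (Pi.single (I.om j) 1) =
      ((dlist πx πb r j).map (fun i => (Pi.single (I.om i) 1 : Ω → ZMod 2))).sum := by
  induction r with
  | nil => simp [Dop, dlist]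
  | cons l r ih =>
    have hlt := dlist_lt πx πb hx hb r j hj
    cases l
    · simp only [Dop, dlist, Bool.false_eq_true, if_false, zero_add, List.nil_append, ih, List.map_map]
      have : ∀ L : List ℕ, (∀ i ∈ L, i < n) →
          tw x (L.map (fun i => (Pi.single (I.om i) 1 : Ω → ZMod 2))).sum =
            (L.map ((fun i => (Pi.single (I.om i) 1 : Ω → ZMod 2)) ∘ πx)).sum := by
        intro L hL
        induction L with
        | nil => simp [tw_zero]
        | cons a L ihL =>
          simp only [List.map_cons, List.sum_cons, tw_add, Function.comp]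
          rw [ihL (fun i hi => hL i (List.mem_cons_of_mem _ hi)), tw_single,
            hπx a (hL a List.mem_cons_self)]
      exact this _ hlt
    · simp only [Dop, dlist, if_true, List.singleton_append, List.map_cons, List.sum_cons, ih,
        List.map_map]
      congr 1
      have : ∀ L : List ℕ, (∀ i ∈ L, i < n) →
          tw b (L.map (fun i => (Pi.single (I.om i) 1 : Ω → ZMod 2))).sum =
            (L.map ((fun i => (Pi.single (I.om i) 1 : Ω → ZMod 2)) ∘ πb)).sum := by
        intro L hL
        induction L with
        | nil => simp [tw_zero]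
        | cons a L ihL =>
          simp only [List.map_cons, List.sum_cons, tw_add, Function.comp]
          rw [ihL (fun i hi => hL i (List.mem_cons_of_mem _ hi)), tw_single,
            hπb a (hL a List.mem_cons_self)]
      exact this _ hlt

end action

end Cfsg.Agent.Lib.Helper1.M23Ext
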