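import Mathlib

set_option autoImplicit false

/-! # The permutational wreath product of the group of order two by a group acting on a set

The elements are the pairs `(f, g)` of a function `f : Ω → ZMod 2` and a group element `g`, with
`(f, g) * (f', g') = (f + g • f', g * g')` where `(g • f') ω = f' (g⁻¹ • ω)`. -/

namespace Cfsg.Agent.Lib.Helper1.M23Ext

universe u v

/-- pairs of a function with values in the integers modulo two and a group element -/
@[ext] structure WP (G : Type u) (Ω : Type v) where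
  /-- the function part -/
  f : Ω → ZMod 2
  /-- the group part -/
  g : G

variable {G : Type u} [Group G] {Ω : Type v} [MulAction G Ω]

theorem zmod2_add_self (a : ZMod 2) : a + a = 0 := by
  revert a; decide

/-- the action of a group element on a function -/
def tw (g : G) (f : Ω → ZMod 2) : Ω → ZMod 2 := fun ω => f (g⁻¹ • ω)

theorem tw_apply (g : G) (f : Ω → ZMod 2) (ω : Ω) : tw g f ω = f (g⁻¹ • ω) := rfl

theorem tw_one (f : Ω → ZMod 2) : tw (1 : G) f = f := by
  funext ω; simp [tw]

theorem tw_mul (g h : G) (f : Ω → ZMod 2) : tw (g * h) f = tw g (tw h f) := by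
  funext ω; simp [tw, mul_smul]

theorem tw_add (g : G) (f f' : Ω → ZMod 2) : tw g (f + f') = tw g f + tw g f' := rfl

theorem tw_zero (g : G) : tw g (0 : Ω → ZMod 2) = 0 := rfl

theorem tw_inv_tw (g : G) (f : Ω → ZMod 2) : tw g⁻¹ (tw g f) = f := by
  rw [← tw_mul, inv_mul_cancel, tw_one]

theorem tw_tw_inv (g : G) (f : Ω → ZMod 2) : tw g (tw g⁻¹ f) = f := by
  rw [← tw_mul, mul_inv_cancel, tw_one]

theorem tw_single [DecidableEq Ω] (g : G) (ω : Ω) (a : ZMod 2) :
    tw g (Pi.single ω a) = Pi.single (g • ω) a := by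
  funext ω'
  simp only [tw, Pi.single_apply]
  by_cases h : ω' = g • ω
  · subst h; simp
  · rw [if_neg h, if_neg]
    intro h2; apply h; rw [← h2, smul_inv_smul]

/-- the action as an additive homomorphism -/
def twHom (g : G) : (Ω → ZMod 2) →+ (Ω → ZMod 2) where
  toFun := tw g
  map_zero' := rfl
  map_add' := fun _ _ => rfl

theorem twHom_apply (g : G) (f : Ω → ZMod 2) : twHom g f = tw g f := rfl

theorem tw_sum {ι : Type*} (g : G) (s : Finset ι) (F : ι → Ω → ZMod 2) :
    tw g (∑ i ∈ s, F i) = ∑ i ∈ s, tw g (F i) := map_sum (twHom g) F s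

instance : Mul (WP G Ω) := ⟨fun a b => ⟨a.f + tw a.g b.f, a.g * b.g⟩⟩
instance : One (WP G Ω) := ⟨⟨0, 1⟩⟩
instance : Inv (WP G Ω) := ⟨fun a => ⟨tw a.g⁻¹ a.f, a.g⁻¹⟩⟩

theorem WP.mul_f (a b : WP G Ω) : (a * b).f = a.f + tw a.g b.f := rfl
theorem WP.mul_g (a b : WP G Ω) : (a * b).g = a.g * b.g := rfl
theorem WP.one_f : (1 : WP G Ω).f = 0 := rfl
theorem WP.one_g : (1 : WP G Ω).g = 1 := rfl
theorem WP.inv_f (a : WP G Ω) : (a⁻¹).f = tw a.g⁻¹ a.f := rfl
theorem WP.inv_g (a : WP G Ω) : (a⁻¹).g = a.g⁻¹ := rfl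

instance : Group (WP G Ω) :=
  Group.ofLeftAxioms
    (by
      intro a b c
      apply WP.ext
      · simp only [WP.mul_f, WP.mul_g, tw_add, tw_mul, add_assoc]
      · simp only [WP.mul_g, mul_assoc])
    (by
      intro a
      apply WP.ext
      · simp only [WP.mul_f, WP.one_f, WP.one_g, tw_one, zero_add]
      · simp only [WP.mul_g, WP.one_g, one_mul])
    (by
      intro a
      apply WP.ext
      · simp only [WP.mul_f, WP.inv_f, WP.inv_g, WP.one_f]
        funext ω
        exact zmod2_add_self _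
      · simp only [WP.mul_g, WP.inv_g, inv_mul_cancel, WP.one_g])

/-- the projection to the group -/
def WP.proj : WP G Ω →* G where
  toFun := fun a => a.g
  map_one' := rfl
  map_mul' := fun _ _ => rfl

theorem WP.proj_apply (a : WP G Ω) : WP.proj a = a.g := rfl

/-- the base group -/
def WP.inl : Multiplicative (Ω → ZMod 2) →* WP G Ω where
  toFun := fun f => ⟨Multiplicative.toAdd f, 1⟩
  map_one' := rfl
  map_mul' := by
    intro a b
    apply WP.ext
    · simp only [WP.mul_f, tw_one]; rfl
    · simp only [WP.mul_g, mul_one]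

/-- the element of the base group with the function `f` -/
def WP.base (f : Ω → ZMod 2) : WP G Ω := ⟨f, 1⟩

theorem WP.base_f (f : Ω → ZMod 2) : (WP.base f : WP G Ω).f = f := rfl
theorem WP.base_g (f : Ω → ZMod 2) : (WP.base f : WP G Ω).g = 1 := rfl

theorem WP.base_mul (f f' : Ω → ZMod 2) : (WP.base f * WP.base f' : WP G Ω) = WP.base (f + f') := by
  apply WP.ext
  · simp only [WP.mul_f, WP.base_f, WP.base_g, tw_one]
  · simp only [WP.mul_g, WP.base_g, mul_one]

theorem WP.base_zero : (WP.base 0 : WP G Ω) = 1 := rfl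

theorem WP.base_inv (f : Ω → ZMod 2) : (WP.base f : WP G Ω)⁻¹ = WP.base f := by
  apply WP.ext
  · simp only [WP.inv_f, WP.base_f, WP.base_g, inv_one, tw_one]
  · simp only [WP.inv_g, WP.base_g, inv_one]

theorem WP.mem_ker_proj (a : WP G Ω) : a ∈ (WP.proj : WP G Ω →* G).ker ↔ a.g = 1 := Iff.rfl

theorem WP.eq_base_of_g_eq_one (a : WP G Ω) (h : a.g = 1) : a = WP.base a.f := by
  apply WP.ext
  · rfl
  · exact h

/-- the section of the projection -/
def WP.sec : G →* WP G Ω where
  toFun := fun g => ⟨0, g⟩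
  map_one' := rfl
  map_mul' := by
    intro a b
    apply WP.ext
    · simp only [WP.mul_f, tw_zero, add_zero]
    · rfl

theorem WP.sec_f (g : G) : (WP.sec g : WP G Ω).f = 0 := rfl
theorem WP.sec_g (g : G) : (WP.sec g : WP G Ω).g = g := rfl

/-- conjugation by an element of the base group -/
theorem WP.base_conj (u : Ω → ZMod 2) (a : WP G Ω) :
    WP.base u * a * (WP.base u)⁻¹ = ⟨u + a.f + tw a.g u, a.g⟩ := by
  apply WP.ext
  · simp only [WP.mul_f, WP.mul_g, WP.base_inv, WP.base_f, WP.base_g, tw_one, one_mul]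
  · simp only [WP.mul_g, WP.base_inv, WP.base_g, one_mul, mul_one]

/-- conjugating an element of the base group -/
theorem WP.conj_base (a : WP G Ω) (u : Ω → ZMod 2) :
    a * WP.base u * a⁻¹ = WP.base (tw a.g u) := by
  apply WP.ext
  · simp only [WP.mul_f, WP.mul_g, WP.inv_f, WP.inv_g, WP.base_f, WP.base_g, mul_one, tw_tw_inv]
    funext ω
    simp only [Pi.add_apply]
    rw [add_right_comm, zmod2_add_self, zero_add]
  · simp only [WP.mul_g, WP.inv_g, WP.base_g, mul_one, mul_inv_cancel]

end Cfsg.Agent.Lib.Helper1.M23Ext
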